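import Mathlib
import Groth.Prelude.Def_SGA1

/-!
# Quotients of schemes by finite groups: invariant sections, locality, integrality
-/

set_option autoImplicit false
set_option linter.style.haveILetI false

universe u

open CategoryTheory AlgebraicGeometry Topology TopologicalSpace Opposite

namespace Groth.Agent.SGA1Quot

variable {X Y : Scheme.{u}} {G : Type u} [Group G] (ρ : G →* Aut X) (p : X ⟶ Y)
  (hinv : ∀ g : G, (ρ g).hom ≫ p = p)

/-- The map induced by `g` on the sections over the inverse image of `U`. -/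
noncomputable def act (g : G) (U : Y.Opens) : Γ(X, p ⁻¹ᵁ U) →+* Γ(X, p ⁻¹ᵁ U) :=
  ((ρ g).hom.appLE (p ⁻¹ᵁ U) (p ⁻¹ᵁ U) (SGA1.preimage_le_of_inv ρ p hinv g U)).hom

theorem appLE_congr_hom {A B : Scheme.{u}} {f f' : A ⟶ B} (h : f = f') (U : B.Opens) (V : A.Opens)
    (e : V ≤ f ⁻¹ᵁ U) : f.appLE U V e = f'.appLE U V (h ▸ e) := by
  subst h; rfl

theorem id_appLE {A : Scheme.{u}} (U V : A.Opens) (e : V ≤ (𝟙 A : A ⟶ A) ⁻¹ᵁ U) :
    (𝟙 A : A ⟶ A).appLE U V e = A.presheaf.map (homOfLE e).op := by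
  simp [Scheme.Hom.appLE]
  exact Category.id_comp _

theorem act_one (U : Y.Opens) : act ρ p hinv 1 U = RingHom.id _ := by
  have h : (ρ 1).hom = 𝟙 X := by rw [map_one]; rfl
  rw [act, appLE_congr_hom h, id_appLE]
  exact congrArg CommRingCat.Hom.hom (X.presheaf.map_id (op (p ⁻¹ᵁ U)))

theorem act_mul (g h : G) (U : Y.Opens) :
    act ρ p hinv (g * h) U = (act ρ p hinv h U).comp (act ρ p hinv g U) := by
  have e : (ρ (g * h)).hom = (ρ h).hom ≫ (ρ g).hom := by rw [map_mul]; rfl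
  rw [act, appLE_congr_hom e, act, act, ← CommRingCat.hom_comp, Scheme.Hom.appLE_comp_appLE]

theorem act_comp_app (g : G) (U : Y.Opens) (s : Γ(Y, U)) :
    act ρ p hinv g U ((p.app U).hom s) = (p.app U).hom s := by
  rw [act, ← CommRingCat.comp_apply, Scheme.Hom.app_eq_appLE, Scheme.Hom.appLE_comp_appLE,
    appLE_congr_hom (hinv g)]

/-- Restriction between preimages. -/
noncomputable def res {U V : Y.Opens} (h : V ≤ U) : Γ(X, p ⁻¹ᵁ U) →+* Γ(X, p ⁻¹ᵁ V) :=
  (X.presheaf.map ((Opens.map p.base).map (homOfLE h)).op).hom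

theorem res_comp_app {U V : Y.Opens} (h : V ≤ U) (s : Γ(Y, U)) :
    res p h ((p.app U).hom s) = (p.app V).hom ((Y.presheaf.map (homOfLE h).op).hom s) := by
  rw [res, ← CommRingCat.comp_apply, ← CommRingCat.comp_apply, p.naturality]
  rfl

theorem act_res (g : G) {U V : Y.Opens} (h : V ≤ U) (s : Γ(X, p ⁻¹ᵁ U)) :
    act ρ p hinv g V (res p h s) = res p h (act ρ p hinv g U s) := by
  rw [act, act, res, ← CommRingCat.comp_apply, ← CommRingCat.comp_apply, Scheme.Hom.appLE_map,
    Scheme.Hom.map_appLE]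

/-- The quotient condition over a single open. -/
def Good (U : Y.Opens) : Prop :=
  Function.Injective (p.app U).hom ∧
    ∀ s : Γ(X, p ⁻¹ᵁ U), (∀ g : G, act ρ p hinv g U s = s) → s ∈ Set.range (p.app U).hom

variable {ρ p hinv}

theorem good_of_isQuot (hp : SGA1.IsQuot ρ p) (U : Y.Opens) : Good ρ p hp.inv U :=
  ⟨hp.injective U, fun s hs => (hp.range_iff U s).2 hs⟩

theorem isQuot_of_good (ha : IsAffineHom p) (h : ∀ U, Good ρ p hinv U) : SGA1.IsQuot ρ p where
  affine := ha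
  inv := hinv
  injective U := (h U).1
  range_iff U s := ⟨fun ⟨t, ht⟩ g => ht ▸ act_comp_app ρ p hinv g U t, (h U).2 s⟩

/-- If the quotient condition holds on arbitrarily small opens around each point then it holds
on every open. -/
theorem good_of_locally (U : Y.Opens)
    (h : ∀ y ∈ U, ∃ V : Y.Opens, y ∈ V ∧ V ≤ U ∧ Good ρ p hinv V ∧
      ∀ W : Y.Opens, W ≤ V → Function.Injective (p.app W).hom) :
    Good ρ p hinv U := by
  choose V hy hVU hgood hinjW using h
  let 𝒰 : U → Y.Opens := fun y => V y.1 y.2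
  have hcover : U ≤ iSup 𝒰 := fun y hyU => Opens.mem_iSup.2 ⟨⟨y, hyU⟩, hy y hyU⟩
  refine ⟨fun s t hst => ?_, fun s hs => ?_⟩
  · refine Y.sheaf.eq_of_locally_eq' 𝒰 U (fun y => homOfLE (hVU y.1 y.2)) hcover s t fun y => ?_
    apply (hgood y.1 y.2).1
    erw [← res_comp_app, ← res_comp_app, hst]
  · have hloc : ∀ y : U, ∃ t, (p.app (𝒰 y)).hom t = res p (hVU y.1 y.2) s := fun y =>
      (hgood y.1 y.2).2 _ fun g => by rw [act_res, hs]
    choose t ht using hloc
    obtain ⟨u, hu, -⟩ := Y.sheaf.existsUnique_gluing' 𝒰 U (fun y => homOfLE (hVU y.1 y.2))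
      hcover t (by
        intro y z
        apply hinjW y.1 y.2 _ inf_le_left
        have ey := res_comp_app p (show 𝒰 y ⊓ 𝒰 z ≤ 𝒰 y from inf_le_left) (t y)
        have ez := res_comp_app p (show 𝒰 y ⊓ 𝒰 z ≤ 𝒰 z from inf_le_right) (t z)
        rw [ht] at ey ez
        refine ey.symm.trans (Eq.trans ?_ ez)
        simp only [res, ← CommRingCat.comp_apply, ← Functor.map_comp, ← op_comp]
        rfl)
    refine ⟨u, ?_⟩
    refine X.sheaf.eq_of_locally_eq' (fun y => p ⁻¹ᵁ 𝒰 y) (p ⁻¹ᵁ U)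
      (fun y => (Opens.map p.base).map (homOfLE (hVU y.1 y.2))) ?_ _ _ fun y => ?_
    · intro x hx
      exact Opens.mem_iSup.2 ⟨⟨p.base x, hx⟩, hy _ hx⟩
    · exact (res_comp_app p (hVU y.1 y.2) u).trans ((congrArg _ (hu y)).trans (ht y))

variable [Finite G]

/-- The quotient condition localises to basic opens. -/
theorem good_basicOpen [IsAffineHom p] {V : Y.Opens} (hV : IsAffineOpen V)
    (h : Good ρ p hinv V) (b : Γ(Y, V)) : Good ρ p hinv (Y.basicOpen b) := by
  cases nonempty_fintype G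
  have hV' : IsAffineOpen (p ⁻¹ᵁ V) := hV.preimage p
  have hle : Y.basicOpen b ≤ V := Y.basicOpen_le b
  letI : Algebra Γ(X, p ⁻¹ᵁ V) Γ(X, p ⁻¹ᵁ Y.basicOpen b) := (res p hle).toAlgebra
  letI : Algebra Γ(Y, V) Γ(Y, Y.basicOpen b) := (Y.presheaf.map (homOfLE hle).op).hom.toAlgebra
  haveI hlY : IsLocalization.Away b Γ(Y, Y.basicOpen b) := hV.isLocalization_basicOpen b
  haveI hlX : IsLocalization.Away ((p.app V).hom b) Γ(X, p ⁻¹ᵁ Y.basicOpen b) :=
    hV'.isLocalization_of_eq_basicOpen _ ((Opens.map p.base).map (homOfLE hle))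
      (Scheme.preimage_basicOpen p b)
  have comm : ∀ c, (p.app (Y.basicOpen b)).hom (algebraMap Γ(Y, V) _ c) =
      algebraMap Γ(X, p ⁻¹ᵁ V) _ ((p.app V).hom c) := fun c => (res_comp_app p hle c).symm
  refine ⟨?_, fun s hs => ?_⟩
  · rw [injective_iff_map_eq_zero]
    intro t ht
    obtain ⟨⟨c, ⟨_, n, rfl⟩⟩, hc⟩ := IsLocalization.surj (Submonoid.powers b) t
    simp only at hc
    have h0 : algebraMap Γ(X, p ⁻¹ᵁ V) Γ(X, p ⁻¹ᵁ Y.basicOpen b) ((p.app V).hom c) = 0 := by
      rw [← comm, ← hc, map_mul, ht, zero_mul]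
    obtain ⟨⟨_, m, rfl⟩, hm⟩ := (IsLocalization.map_eq_zero_iff
      (Submonoid.powers ((p.app V).hom b)) _ _).1 h0
    simp only [← map_pow, ← map_mul] at hm
    have hbc : b ^ m * c = 0 := h.1 (hm.trans (map_zero _).symm)
    have : t * algebraMap _ _ (b ^ (n + m)) = 0 := by
      rw [pow_add, map_mul, ← mul_assoc, hc, ← map_mul, mul_comm, hbc, map_zero]
    exact ((IsLocalization.map_units (Γ(Y, Y.basicOpen b))
      (⟨b ^ (n + m), n + m, rfl⟩ : Submonoid.powers b)).mul_left_eq_zero).1 this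
  · obtain ⟨⟨a, ⟨_, n, rfl⟩⟩, ha⟩ := IsLocalization.surj (Submonoid.powers ((p.app V).hom b)) s
    simp only at ha
    have key : ∀ g : G, ∃ m : ℕ, (p.app V).hom b ^ m * act ρ p hinv g V a =
        (p.app V).hom b ^ m * a := by
      intro g
      have h1 : algebraMap Γ(X, p ⁻¹ᵁ V) Γ(X, p ⁻¹ᵁ Y.basicOpen b) (act ρ p hinv g V a) =
          algebraMap _ _ a := by
        refine (act_res ρ p hinv g hle a).symm.trans ?_
        change act ρ p hinv g _ (algebraMap _ _ a) = algebraMap _ _ a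
        rw [← ha, map_mul, hs g]
        congr 1
        change act ρ p hinv g _ (res p hle _) = res p hle _
        rw [act_res, map_pow, act_comp_app, ← map_pow]
      obtain ⟨⟨_, m, rfl⟩, hm⟩ := IsLocalization.exists_of_eq
        (M := Submonoid.powers ((p.app V).hom b)) h1
      exact ⟨m, hm⟩
    choose m hm using key
    let M := Finset.univ.sup m
    obtain ⟨c, hc⟩ := h.2 ((p.app V).hom b ^ M * a) fun g => by
      have hle' : m g ≤ M := Finset.le_sup (Finset.mem_univ g)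
      rw [map_mul, map_pow, act_comp_app, ← Nat.sub_add_cancel hle', pow_add, mul_assoc, hm g,
        ← mul_assoc]
    refine ⟨IsLocalization.mk' _ c (⟨b ^ (n + M), n + M, rfl⟩ : Submonoid.powers b), ?_⟩
    have hu := (IsLocalization.map_units (Γ(X, p ⁻¹ᵁ Y.basicOpen b))
      (⟨(p.app V).hom b ^ (n + M), n + M, rfl⟩ : Submonoid.powers ((p.app V).hom b)))
    apply hu.mul_left_injective
    simp only
    have e := congrArg (p.app (Y.basicOpen b)).hom (IsLocalization.mk'_spec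
      (Γ(Y, Y.basicOpen b)) c (⟨b ^ (n + M), n + M, rfl⟩ : Submonoid.powers b))
    rw [map_mul, comm, comm, map_pow, hc] at e
    rw [e, map_mul, ← ha, pow_add, map_mul]
    ring

/-- It suffices to check the quotient condition on an affine open cover of the target. -/
theorem isQuot_of_affine_cover [IsAffineHom p]
    (h : ∀ y : Y, ∃ V : Y.Opens, IsAffineOpen V ∧ y ∈ V ∧ Good ρ p hinv V) :
    SGA1.IsQuot ρ p := by
  have basic : ∀ (U : Y.Opens), ∀ y ∈ U, ∃ W : Y.Opens, y ∈ W ∧ W ≤ U ∧ Good ρ p hinv W := by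
    intro U y hyU
    obtain ⟨V, hV, hyV, hg⟩ := h y
    obtain ⟨b, hb, hyb⟩ := hV.exists_basicOpen_le (⟨y, hyU⟩ : U) hyV
    exact ⟨Y.basicOpen b, hyb, hb, good_basicOpen hV hg b⟩
  have inj : ∀ U : Y.Opens, Function.Injective (p.app U).hom := by
    intro U s t hst
    choose W hyW hWU hg using basic U
    refine Y.sheaf.eq_of_locally_eq' (fun y : U => W y.1 y.2) U
      (fun y => homOfLE (hWU y.1 y.2))
      (fun y hy => Opens.mem_iSup.2 ⟨⟨y, hy⟩, hyW y hy⟩) s t fun y => ?_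
    apply (hg y.1 y.2).1
    erw [← res_comp_app, ← res_comp_app, hst]
  refine isQuot_of_good (hinv := hinv) inferInstance fun U => good_of_locally U fun y hyU => ?_
  obtain ⟨W, hy, hW, hg⟩ := basic U y hyU
  exact ⟨W, hy, hW, hg, fun W' _ => inj W'⟩

/-! ### The invariant-theoretic structure over an affine open -/

/-- Left action of `G` on sections over a stable open. -/
@[reducible] noncomputable def mulSemiringAction (hinv : ∀ g : G, (ρ g).hom ≫ p = p) (U : Y.Opens) :
    MulSemiringAction G Γ(X, p ⁻¹ᵁ U) where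
  smul g s := act ρ p hinv g⁻¹ U s
  one_smul s := by
    change act ρ p hinv 1⁻¹ U s = s
    rw [inv_one, act_one]; rfl
  mul_smul g h s := by
    change act ρ p hinv (g * h)⁻¹ U s = act ρ p hinv g⁻¹ U (act ρ p hinv h⁻¹ U s)
    rw [mul_inv_rev, act_mul]; rfl
  smul_zero g := map_zero _
  smul_add g := map_add _
  smul_one g := map_one _
  smul_mul g := map_mul _

omit [Finite G] in
theorem smulCommClass (hinv : ∀ g : G, (ρ g).hom ≫ p = p) (U : Y.Opens) :
    letI := mulSemiringAction hinv U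
    letI := (p.app U).hom.toAlgebra
    SMulCommClass G Γ(Y, U) Γ(X, p ⁻¹ᵁ U) := by
  letI := mulSemiringAction hinv U
  letI := (p.app U).hom.toAlgebra
  refine ⟨fun g b a => ?_⟩
  rw [Algebra.smul_def, Algebra.smul_def]
  change act ρ p hinv g⁻¹ U ((p.app U).hom b * a) = (p.app U).hom b * act ρ p hinv g⁻¹ U a
  rw [map_mul, act_comp_app]

omit [Finite G] in
theorem isInvariant {U : Y.Opens} (h : Good ρ p hinv U) :
    letI := mulSemiringAction hinv U
    letI := (p.app U).hom.toAlgebra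
    Algebra.IsInvariant Γ(Y, U) Γ(X, p ⁻¹ᵁ U) G := by
  letI := mulSemiringAction hinv U
  letI := (p.app U).hom.toAlgebra
  refine ⟨fun a ha => h.2 a fun g => ?_⟩
  have := ha g⁻¹
  change act ρ p hinv g⁻¹⁻¹ U a = a at this
  rwa [inv_inv] at this

theorem isIntegralHom_of_isQuot (hp : SGA1.IsQuot ρ p) : IsIntegralHom p := by
  haveI := hp.affine
  refine ⟨fun U _ => ?_⟩
  letI := mulSemiringAction hp.inv U
  letI := (p.app U).hom.toAlgebra
  haveI := isInvariant (good_of_isQuot hp U)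
  exact (Algebra.IsInvariant.isIntegral Γ(Y, U) Γ(X, p ⁻¹ᵁ U) G).1

end Groth.Agent.SGA1Quot
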