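import Mathlib
import Groth.Prelude.Def_SGA1
import Groth.Agent.SGA1Quot.Basic

/-!
# Quotients by finite groups commute with flat base change
-/

set_option autoImplicit false
set_option linter.style.haveILetI false

universe u

open CategoryTheory CategoryTheory.Limits AlgebraicGeometry Topology TopologicalSpace
open TensorProduct

namespace Groth.Agent.SGA1Quot

/-- Invariants commute with flat base change. -/
theorem invariants_baseChange {B B' A A' ι : Type u} [Finite ι] [CommRing B] [CommRing B']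
    [CommRing A] [CommRing A'] [Algebra B B'] [Algebra B A] [Algebra A A'] [Algebra B' A']
    [Algebra B A'] [IsScalarTower B B' A'] [IsScalarTower B A A'] [Algebra.IsPushout B B' A A']
    [Module.Flat B B'] (σ : ι → A →ₐ[B] A) (σ' : ι → A' →ₐ[B'] A')
    (hσ : ∀ i a, σ' i (algebraMap A A' a) = algebraMap A A' (σ i a))
    (hinj : Function.Injective (algebraMap B A))
    (hrange : ∀ a, (∀ i, σ i a = a) → a ∈ Set.range (algebraMap B A)) :
    Function.Injective (algebraMap B' A') ∧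
      ∀ a', (∀ i, σ' i a' = a') → a' ∈ Set.range (algebraMap B' A') := by
  classical
  cases nonempty_fintype ι
  have hbc : IsBaseChange B' (IsScalarTower.toAlgHom B A A').toLinearMap :=
    Algebra.IsPushout.out
  let e := hbc.equiv
  have he : ∀ (b : B') (a : A), e (b ⊗ₜ a) = b • algebraMap A A' a := fun b a =>
    hbc.equiv_tmul b a
  let i : B →ₗ[B] A := Algebra.linearMap B A
  let d : A →ₗ[B] (ι → A) := LinearMap.pi fun j => (σ j).toLinearMap - LinearMap.id
  have hexact : Function.Exact i d := by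
    intro a
    constructor
    · intro h
      refine hrange a fun j => ?_
      have := congrFun h j
      simpa [d, sub_eq_zero] using this
    · rintro ⟨b, rfl⟩
      funext j
      simp [d, i]
  have hexact' := Module.Flat.lTensor_exact B' hexact
  have hinj' : Function.Injective (i.lTensor B') :=
    Module.Flat.lTensor_preserves_injective_linearMap i hinj
  have comp : ∀ z : B' ⊗[B] B,
      e (i.lTensor B' z) = algebraMap B' A' (TensorProduct.rid B B' z) := by
    intro z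
    induction z using TensorProduct.induction_on with
    | zero => simp
    | tmul b' b =>
      rw [LinearMap.lTensor_tmul, he]
      simp [i, Algebra.smul_def, ← IsScalarTower.algebraMap_apply, mul_comm]
    | add x y hx hy => simp only [map_add, hx, hy]
  refine ⟨fun s t hst => ?_, fun a' ha' => ?_⟩
  · obtain ⟨s, rfl⟩ := (TensorProduct.rid B B').surjective s
    obtain ⟨t, rfl⟩ := (TensorProduct.rid B B').surjective t
    rw [← comp, ← comp] at hst
    rw [hinj' (e.injective hst)]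
  · obtain ⟨z, rfl⟩ := e.surjective a'
    have key : ∀ (j : ι) (w : B' ⊗[B] A),
        e (((LinearMap.proj j).comp d).lTensor B' w) = σ' j (e w) - e w := by
      intro j w
      induction w using TensorProduct.induction_on with
      | zero => simp
      | tmul b' a =>
        rw [LinearMap.lTensor_tmul, he, he, map_smul, hσ, ← smul_sub]
        congr 1
        simp [d]
      | add x y hx hy =>
        simp only [map_add, hx, hy]
        abel
    have hz : d.lTensor B' z = 0 := by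
      apply (TensorProduct.piRight B B' B' fun _ : ι => A).injective
      rw [map_zero]
      funext j
      have hp : ∀ w : B' ⊗[B] A, TensorProduct.piRight B B' B' (fun _ : ι => A) (d.lTensor B' w) j
          = ((LinearMap.proj j).comp d).lTensor B' w := by
        intro w
        induction w using TensorProduct.induction_on with
        | zero => simp
        | tmul b' a => simp
        | add x y hx hy => simp only [map_add, Pi.add_apply, hx, hy]
      rw [hp]
      apply e.injective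
      rw [key, ha', sub_self]
      exact (map_zero e).symm
    obtain ⟨w, rfl⟩ := (hexact' z).1 hz
    exact ⟨_, (comp w).symm⟩

variable {X Y X' Y' : Scheme.{u}} {G : Type u} [Group G] [Finite G] {ρ : G →* Aut X} {p : X ⟶ Y}

theorem isQuot_baseChange (hp : SGA1.IsQuot ρ p) (qY : Y' ⟶ Y) [Flat qY] (pX : X' ⟶ X)
    (p' : X' ⟶ Y') (hX : IsPullback pX p' p qY) (ρ' : G →* Aut X')
    (hρ₁ : ∀ g : G, (ρ' g).hom ≫ pX = pX ≫ (ρ g).hom) (hρ₂ : ∀ g : G, (ρ' g).hom ≫ p' = p') :
    SGA1.IsQuot ρ' p' := by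
  haveI := hp.affine
  haveI : IsAffineHom p' := MorphismProperty.of_isPullback hX (inferInstanceAs (IsAffineHom p))
  refine isQuot_of_affine_cover (hinv := hρ₂) fun y => ?_
  obtain ⟨U, hU, hyU, -⟩ := exists_isAffineOpen_mem_and_subset (x := qY.base y) (U := ⊤) trivial
  obtain ⟨U', hU', hyU', hle⟩ :=
    exists_isAffineOpen_mem_and_subset (x := y) (U := qY ⁻¹ᵁ U) hyU
  refine ⟨U', hU', hyU', ?_⟩
  have hUY : p' ⁻¹ᵁ U' = pX ⁻¹ᵁ (p ⁻¹ᵁ U) ⊓ p' ⁻¹ᵁ U' := by
    refine (inf_eq_right.2 ?_).symm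
    intro x hx
    change pX.base x ∈ p ⁻¹ᵁ U
    change p.base (pX.base x) ∈ U
    rw [← Scheme.Hom.comp_apply, hX.w, Scheme.Hom.comp_apply]
    exact hle hx
  have hle' : p' ⁻¹ᵁ U' ≤ pX ⁻¹ᵁ (p ⁻¹ᵁ U) := hUY.le.trans inf_le_left
  have hpush := (isIso_pushoutSection_iff hX (hle : U' ≤ qY ⁻¹ᵁ U) le_rfl hUY).1
    (isIso_pushoutSection_of_isAffineOpen hX (hle : U' ≤ qY ⁻¹ᵁ U) le_rfl hUY hU hU'
      (hU.preimage p))
  have hcomm : p.app U ≫ pX.appLE (p ⁻¹ᵁ U) (p' ⁻¹ᵁ U') hle' =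
      qY.appLE U U' hle ≫ p'.app U' := by
    simp only [Scheme.Hom.app_eq_appLE, Scheme.Hom.appLE_comp_appLE]
    exact appLE_congr_hom hX.w _ _ _
  have happ' : p'.appLE U' (p' ⁻¹ᵁ U') le_rfl = p'.app U' := (p'.app_eq_appLE).symm
  have happ : p.appLE U (p ⁻¹ᵁ U) le_rfl = p.app U := (p.app_eq_appLE).symm
  letI : Algebra Γ(Y, U) Γ(X, p ⁻¹ᵁ U) := (p.app U).hom.toAlgebra
  letI : Algebra Γ(Y, U) Γ(Y', U') := (qY.appLE U U' hle).hom.toAlgebra
  letI : Algebra Γ(X, p ⁻¹ᵁ U) Γ(X', p' ⁻¹ᵁ U') :=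
    (pX.appLE (p ⁻¹ᵁ U) (p' ⁻¹ᵁ U') hle').hom.toAlgebra
  letI : Algebra Γ(Y', U') Γ(X', p' ⁻¹ᵁ U') := (p'.app U').hom.toAlgebra
  letI : Algebra Γ(Y, U) Γ(X', p' ⁻¹ᵁ U') := (qY.appLE U U' hle ≫ p'.app U').hom.toAlgebra
  haveI : IsScalarTower Γ(Y, U) Γ(Y', U') Γ(X', p' ⁻¹ᵁ U') :=
    IsScalarTower.of_algebraMap_eq fun _ => rfl
  haveI : IsScalarTower Γ(Y, U) Γ(X, p ⁻¹ᵁ U) Γ(X', p' ⁻¹ᵁ U') :=
    IsScalarTower.of_algebraMap_eq fun a => (ConcreteCategory.congr_hom hcomm a).symm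
  haveI : Algebra.IsPushout Γ(Y, U) Γ(Y', U') Γ(X, p ⁻¹ᵁ U) Γ(X', p' ⁻¹ᵁ U') := by
    refine CommRingCat.isPushout_iff_isPushout.1 ?_
    have := hpush.flip
    rw [happ, happ'] at this
    exact this
  haveI : Module.Flat Γ(Y, U) Γ(Y', U') := qY.flat_appLE hU hU' hle
  let σ : G → (Γ(X, p ⁻¹ᵁ U) →ₐ[Γ(Y, U)] Γ(X, p ⁻¹ᵁ U)) := fun g =>
    { act ρ p hp.inv g U with commutes' := act_comp_app ρ p hp.inv g U }
  let σ' : G → (Γ(X', p' ⁻¹ᵁ U') →ₐ[Γ(Y', U')] Γ(X', p' ⁻¹ᵁ U')) := fun g =>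
    { act ρ' p' hρ₂ g U' with commutes' := act_comp_app ρ' p' hρ₂ g U' }
  have hσ : ∀ g a, σ' g (algebraMap _ _ a) = algebraMap _ _ (σ g a) := by
    intro g a
    have key : pX.appLE (p ⁻¹ᵁ U) (p' ⁻¹ᵁ U') hle' ≫
          (ρ' g).hom.appLE (p' ⁻¹ᵁ U') (p' ⁻¹ᵁ U') (SGA1.preimage_le_of_inv ρ' p' hρ₂ g U') =
        (ρ g).hom.appLE (p ⁻¹ᵁ U) (p ⁻¹ᵁ U) (SGA1.preimage_le_of_inv ρ p hp.inv g U) ≫
          pX.appLE (p ⁻¹ᵁ U) (p' ⁻¹ᵁ U') hle' := by
      simp only [Scheme.Hom.appLE_comp_appLE]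
      exact appLE_congr_hom (hρ₁ g) _ _ _
    exact ConcreteCategory.congr_hom key a
  exact invariants_baseChange σ σ' hσ (hp.injective U) (good_of_isQuot hp U).2

end Groth.Agent.SGA1Quot
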