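import Mathlib
import Groth.Prelude.Def_SGA1
import Groth.Agent.GITLib.CatQuot

/-!
# Descent of morphisms along quotient maps with injective maps on sections
-/

set_option autoImplicit false

universe u

open CategoryTheory CategoryTheory.Limits AlgebraicGeometry Topology

namespace Groth.Agent.SGA1Quot

variable {X Y Z : Scheme.{u}}

theorem epi_of_app_injective (p : X ⟶ Y) (hs : Function.Surjective p.base)
    (hinj : ∀ U : Y.Opens, Function.Injective (p.app U).hom) : Epi p :=
  ⟨fun _ _ h => GITLib.hom_ext_of_app_injective p hs hinj h⟩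

/-- A morphism out of `X` which is constant on the fibres of a quotient map `p : X ⟶ Y` injective
on sections, and whose sections all descend, factors uniquely through `p`. -/
theorem existsUnique_desc (p : X ⟶ Y) (hq : IsQuotientMap p.base)
    (hinj : ∀ U : Y.Opens, Function.Injective (p.app U).hom) (h : X ⟶ Z)
    (hfib : ∀ x x' : X, p.base x = p.base x' → h.base x = h.base x')
    (hsec : ∀ (U : Y.Opens) (V : Z.Opens) (e : p ⁻¹ᵁ U ≤ h ⁻¹ᵁ V) (s : Γ(Z, V)),
      (h.appLE V (p ⁻¹ᵁ U) e).hom s ∈ Set.range (p.app U).hom) :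
    ∃! h' : Y ⟶ Z, p ≫ h' = h := by
  have := epi_of_app_injective p hq.surjective hinj
  let b : Y → Z := fun y => h.base (Function.surjInv hq.surjective y)
  have hbp : ∀ x, b (p.base x) = h.base x := fun x =>
    hfib _ _ (Function.surjInv_eq hq.surjective _)
  have hbc : Continuous b := by
    rw [hq.continuous_iff]
    have : b ∘ p.base = h.base := funext hbp
    rw [this]
    exact h.base.hom.continuous
  let bT : (Y : TopCat.{u}) ⟶ (Z : TopCat.{u}) := TopCat.ofHom ⟨b, hbc⟩
  let W : Z.Opens → Y.Opens := fun V => (TopologicalSpace.Opens.map bT).obj V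
  have eW : ∀ V : Z.Opens, p ⁻¹ᵁ W V = h ⁻¹ᵁ V := fun V => by
    ext x
    change b (p.base x) ∈ V ↔ h.base x ∈ V
    rw [hbp]
  choose φ hφ using fun (V : Z.Opens) (s : Γ(Z, V)) => hsec (W V) V (eW V).le s
  let ψ : ∀ V : Z.Opens, Γ(Z, V) →+* Γ(Y, W V) := fun V =>
    { toFun := φ V
      map_one' := hinj _ (by rw [hφ, map_one, map_one])
      map_mul' := fun a c => hinj _ (by rw [hφ, map_mul, map_mul, hφ, hφ])
      map_zero' := hinj _ (by rw [hφ, map_zero, map_zero])
      map_add' := fun a c => hinj _ (by rw [hφ, map_add, map_add, hφ, hφ]) }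
  have hψ : ∀ V, CommRingCat.ofHom (ψ V) ≫ p.app (W V) = h.appLE V (p ⁻¹ᵁ W V) (eW V).le := by
    intro V
    ext s
    exact hφ V s
  let c : Z.presheaf ⟶ bT _* Y.presheaf :=
    { app := fun V => CommRingCat.ofHom (ψ V.unop)
      naturality := fun V V' i => by
        ext s
        apply hinj (W V'.unop)
        have a1 := ConcreteCategory.congr_hom (p.naturality
          ((TopologicalSpace.Opens.map bT).op.map i)) (φ V.unop s)
        have a2 := ConcreteCategory.congr_hom (h.map_appLE (eW V'.unop).le i) s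
        have a3 := ConcreteCategory.congr_hom (h.appLE_map (eW V.unop).le
          ((TopologicalSpace.Opens.map p.base).op.map ((TopologicalSpace.Opens.map bT).op.map i))) s
        simp only [ConcreteCategory.comp_apply] at a1 a2 a3
        erw [hφ V.unop s] at a1
        change (p.app (W V'.unop)).hom (φ V'.unop (Z.presheaf.map i s)) =
          (p.app (W V'.unop)).hom (Y.presheaf.map _ (φ V.unop s))
        rw [hφ]
        refine a2.trans ?_
        exact (a1.trans a3).symm }
  let h₀ : Y.toPresheafedSpace ⟶ Z.toPresheafedSpace := ⟨bT, c⟩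
  have hbase : p.toLRSHom.toHom.base ≫ bT = h.toLRSHom.toHom.base := by
    ext x
    exact hbp x
  have hcomp : p.toLRSHom.toHom ≫ h₀ = h.toLRSHom.toHom := by
    refine PresheafedSpace.Hom.ext _ _ hbase ?_
    refine TopCat.Presheaf.ext fun V => ?_
    ext s
    have a3 := ConcreteCategory.congr_hom (h.appLE_map (eW V).le
      (eqToHom (eW V).symm).op) s
    simp only [ConcreteCategory.comp_apply] at a3
    erw [← hφ V s] at a3
    rw [← Scheme.Hom.app_eq_appLE] at a3
    refine Eq.trans ?_ a3
    simp [h₀, c, ψ, eqToHom_map, Functor.whiskerRight, eqToHom_app]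
    rfl
  have hloc : ∀ y : Y, IsLocalHom (PresheafedSpace.Hom.stalkMap h₀ y).hom := by
    intro y
    obtain ⟨x, rfl⟩ := hq.surjective y
    have e1 := PresheafedSpace.stalkMap.comp p.toLRSHom.toHom h₀ x
    have h2 : IsLocalHom (PresheafedSpace.Hom.stalkMap (p.toLRSHom.toHom ≫ h₀) x).hom := by
      rw [hcomp]
      exact h.toLRSHom.prop x
    rw [e1] at h2
    exact @isLocalHom_of_comp _ _ _ _ _ _ (PresheafedSpace.Hom.stalkMap h₀ (p.base x)).hom (PresheafedSpace.Hom.stalkMap p.toLRSHom.toHom x).hom h2
  refine ⟨⟨⟨h₀, hloc⟩⟩, ?_, fun g hg => ?_⟩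
  · exact Scheme.Hom.ext' (LocallyRingedSpace.Hom.ext' hcomp)
  · rw [← cancel_epi p, hg]
    exact (Scheme.Hom.ext' (LocallyRingedSpace.Hom.ext' hcomp)).symm

theorem effectiveEpi_of_equalizer {S' S : Scheme.{u}} (g : S' ⟶ S) (hq : IsQuotientMap g.base)
    (hinj : ∀ U : S.Opens, Function.Injective (g.app U).hom)
    (heq : ∀ (U : S.Opens) (s' : Γ(S', g ⁻¹ᵁ U)),
      (SGA1.overlapFstApp g U).hom s' = (SGA1.overlapSndApp g U).hom s' →
      s' ∈ Set.range (g.app U).hom) :
    EffectiveEpi g := by
  have key : ∀ {Z : Scheme.{u}} (e : S' ⟶ Z), pullback.fst g g ≫ e = pullback.snd g g ≫ e →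
      ∃! h' : S ⟶ Z, g ≫ h' = e := by
    intro Z e he
    refine existsUnique_desc g hq hinj e (fun x x' hx => ?_) (fun U V hle s => heq U _ ?_)
    · obtain ⟨z, h1, h2⟩ := Scheme.Pullback.exists_preimage_pullback x x' hx
      have := congrArg (fun k : pullback g g ⟶ Z => k.base z) he
      simp only [Scheme.Hom.comp_base, TopCat.comp_app] at this
      rwa [h1, h2] at this
    · simp only [SGA1.overlapFstApp, SGA1.overlapSndApp, Scheme.Hom.app_eq_appLE,
        ← CommRingCat.comp_apply, Scheme.Hom.appLE_comp_appLE]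
      simp only [he]
  refine ⟨⟨{ desc := fun {W} e he => (key e (he _ _ pullback.condition)).exists.choose
             fac := fun {W} e he => (key e (he _ _ pullback.condition)).exists.choose_spec
             uniq := fun {W} e he m hm => ?_ }⟩⟩
  exact (key e (he _ _ pullback.condition)).unique hm
    (key e (he _ _ pullback.condition)).exists.choose_spec

end Groth.Agent.SGA1Quot
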