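import Mathlib
import Groth.Prelude.Def_SGA1
import Groth.Agent.SGA1Quot.Basic
import Groth.Agent.SGA1Quot.Desc

/-!
# Quotients by finite groups: points, categorical quotient, restriction, affine case
-/

set_option autoImplicit false
set_option linter.style.haveILetI false

universe u

open CategoryTheory AlgebraicGeometry Topology TopologicalSpace Opposite
open scoped Pointwise

namespace Groth.Agent.SGA1Quot

variable {X Y : Scheme.{u}} {G : Type u} [Group G] {ρ : G →* Aut X} {p : X ⟶ Y}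

theorem inv_apply (hinv : ∀ g : G, (ρ g).hom ≫ p = p) (g : G) (x : X) :
    p.base ((ρ g).hom.base x) = p.base x := by
  have := congrArg (fun k : X ⟶ Y => k.base x) (hinv g)
  simpa only [Scheme.Hom.comp_base, TopCat.comp_app] using this

variable [Finite G] (hp : SGA1.IsQuot ρ p)
include hp

theorem surjective : Function.Surjective p.base := by
  intro y
  obtain ⟨V, hV, hy, -⟩ := exists_isAffineOpen_mem_and_subset (x := y) (U := ⊤) trivial
  haveI := hp.affine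
  have hV' := hV.preimage p
  have hint := (isIntegralHom_of_isQuot hp).isIntegral_app V hV
  obtain ⟨q, hq⟩ := hint.comap_surjective (hp.injective V) (hV.primeIdealOf ⟨y, hy⟩)
  refine ⟨hV'.fromSpec.base q, ?_⟩
  have := IsAffineOpen.SpecMap_appLE_fromSpec p hV hV' le_rfl
  rw [← Scheme.Hom.app_eq_appLE] at this
  have h2 := congrArg (fun k : Spec Γ(X, p ⁻¹ᵁ V) ⟶ Y => k.base q) this
  simp only [Scheme.Hom.comp_base, TopCat.comp_app] at h2
  rw [← h2]
  change hV.fromSpec.base (PrimeSpectrum.comap (p.app V).hom q) = y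
  rw [hq, hV.fromSpec_primeIdealOf]

theorem eq_iff_exists (x x' : X) :
    p.base x = p.base x' ↔ ∃ g : G, (ρ g).hom.base x = x' := by
  refine ⟨fun he => ?_, fun ⟨g, hg⟩ => hg ▸ (inv_apply hp.inv g x).symm⟩
  obtain ⟨V, hV, hy, -⟩ := exists_isAffineOpen_mem_and_subset (x := p.base x) (U := ⊤) trivial
  haveI := hp.affine
  have hV' := hV.preimage p
  have hx : x ∈ p ⁻¹ᵁ V := hy
  have hx' : x' ∈ p ⁻¹ᵁ V := by change p.base x' ∈ V; rw [← he]; exact hy
  letI := mulSemiringAction hp.inv V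
  letI := (p.app V).hom.toAlgebra
  haveI := isInvariant (good_of_isQuot hp V)
  haveI := smulCommClass (X := X) (Y := Y) hp.inv V
  let P := hV'.primeIdealOf ⟨x, hx⟩
  let P' := hV'.primeIdealOf ⟨x', hx'⟩
  have hcx : ∀ (z : X) (hz : z ∈ p ⁻¹ᵁ V),
      (hV'.primeIdealOf ⟨z, hz⟩).comap (p.app V).hom = hV.primeIdealOf ⟨p.base z, hz⟩ := by
    intro z hz
    rw [Scheme.Hom.app_eq_appLE]
    exact IsAffineOpen.comap_primeIdealOf_appLE V hV (p ⁻¹ᵁ V) hV' le_rfl hz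
  have hPP : P.asIdeal.under Γ(Y, V) = P'.asIdeal.under Γ(Y, V) := by
    have : P.comap (p.app V).hom = P'.comap (p.app V).hom := by
      rw [hcx, hcx]; congr 1; exact Subtype.ext he
    exact congrArg PrimeSpectrum.asIdeal this
  obtain ⟨g, hg⟩ := Algebra.IsInvariant.exists_smul_of_under_eq Γ(Y, V) Γ(X, p ⁻¹ᵁ V) G
    P.asIdeal P'.asIdeal hPP
  refine ⟨g, ?_⟩
  have hmem : (ρ g).hom.base x ∈ p ⁻¹ᵁ V := by
    change p.base ((ρ g).hom.base x) ∈ V; rw [inv_apply hp.inv]; exact hy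
  have h1 : (hV'.primeIdealOf ⟨(ρ g).hom.base x, hmem⟩).asIdeal = P'.asIdeal := by
    rw [hg, Ideal.pointwise_smul_eq_comap]
    have h2 := IsAffineOpen.comap_primeIdealOf_appLE (f := (ρ g).hom) (p ⁻¹ᵁ V) hV' (p ⁻¹ᵁ V) hV'
      (SGA1.preimage_le_of_inv ρ p hp.inv g V) hx
    rw [← h2]
    ext a
    change act ρ p hp.inv g V a ∈ P.asIdeal ↔ act ρ p hp.inv g⁻¹⁻¹ V a ∈ P.asIdeal
    rw [inv_inv]
  have h3 : hV'.primeIdealOf ⟨(ρ g).hom.base x, hmem⟩ = P' := PrimeSpectrum.ext h1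
  have := congrArg (fun q => hV'.fromSpec.base q) h3
  simpa only [P', IsAffineOpen.fromSpec_primeIdealOf] using this

theorem isQuotientMap : IsQuotientMap p.base := by
  haveI := isIntegralHom_of_isQuot hp
  exact p.isClosedMap.isQuotientMap p.base.hom.continuous (surjective hp)

theorem existsUnique_desc_of_isQuot {Z : Scheme.{u}} (h : X ⟶ Z)
    (hh : ∀ g : G, (ρ g).hom ≫ h = h) : ∃! h' : Y ⟶ Z, p ≫ h' = h := by
  refine existsUnique_desc p (isQuotientMap hp) hp.injective h (fun x x' he => ?_)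
    (fun U V e s => ?_)
  · obtain ⟨g, rfl⟩ := (eq_iff_exists hp x x').1 he
    exact (inv_apply hh g x).symm
  · refine (hp.range_iff U _).2 fun g => ?_
    rw [← CommRingCat.comp_apply, Scheme.Hom.appLE_comp_appLE, appLE_congr_hom (hh g)]

omit [Finite G] in
theorem isQuot_morphismRestrict (U : Y.Opens) (ρU : G →* Aut (p ⁻¹ᵁ U).toScheme)
    (hρU : ∀ g : G, (ρU g).hom ≫ (p ⁻¹ᵁ U).ι = (p ⁻¹ᵁ U).ι ≫ (ρ g).hom) :
    SGA1.IsQuot ρU (p ∣_ U) := by
  haveI := hp.affine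
  have hinv : ∀ g : G, (ρU g).hom ≫ (p ∣_ U) = p ∣_ U := by
    intro g
    rw [← cancel_mono U.ι, Category.assoc, morphismRestrict_ι, ← Category.assoc, hρU,
      Category.assoc, hp.inv]
  refine isQuot_of_good (hinv := hinv) (IsZariskiLocalAtTarget.restrict ‹_› U) fun W => ?_
  have e : (p ⁻¹ᵁ U).ι ''ᵁ ((p ∣_ U) ⁻¹ᵁ W) = p ⁻¹ᵁ (U.ι ''ᵁ W) := image_morphismRestrict_preimage p U W
  have happ : (p ∣_ U).app W = p.app (U.ι ''ᵁ W) ≫ X.presheaf.map (eqToHom e).op :=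
    morphismRestrict_app p U W
  have hbij : Function.Bijective (X.presheaf.map (eqToHom e).op).hom :=
    ConcreteCategory.bijective_of_isIso (X.presheaf.map (eqToHom e).op)
  have hgood := good_of_isQuot hp (U.ι ''ᵁ W)
  refine ⟨?_, fun s hs => ?_⟩
  · rw [happ]
    exact hbij.1.comp hgood.1
  · obtain ⟨t, rfl⟩ := hbij.2 s
    have hinvt : ∀ g : G, act ρ p hp.inv g (U.ι ''ᵁ W) t = t := by
      intro g
      apply hbij.1
      refine Eq.trans ?_ (hs g)
      have h1 : (p ⁻¹ᵁ U).ι.appLE (p ⁻¹ᵁ (U.ι ''ᵁ W)) ((p ∣_ U) ⁻¹ᵁ W) (by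
          rw [← e, Scheme.Hom.preimage_image_eq]) = X.presheaf.map (eqToHom e).op :=
        Scheme.Opens.ι_appLE _ _ _ _
      have key : (ρ g).hom.appLE (p ⁻¹ᵁ (U.ι ''ᵁ W)) (p ⁻¹ᵁ (U.ι ''ᵁ W))
            (SGA1.preimage_le_of_inv ρ p hp.inv g _) ≫
          (p ⁻¹ᵁ U).ι.appLE (p ⁻¹ᵁ (U.ι ''ᵁ W)) ((p ∣_ U) ⁻¹ᵁ W)
            (by rw [← e, Scheme.Hom.preimage_image_eq]) =
          (p ⁻¹ᵁ U).ι.appLE (p ⁻¹ᵁ (U.ι ''ᵁ W)) ((p ∣_ U) ⁻¹ᵁ W)
            (by rw [← e, Scheme.Hom.preimage_image_eq]) ≫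
          (ρU g).hom.appLE ((p ∣_ U) ⁻¹ᵁ W) ((p ∣_ U) ⁻¹ᵁ W)
            (SGA1.preimage_le_of_inv ρU (p ∣_ U) hinv g W) := by
        rw [Scheme.Hom.appLE_comp_appLE, Scheme.Hom.appLE_comp_appLE, appLE_congr_hom (hρU g)]
      rw [h1] at key
      exact ConcreteCategory.congr_hom key t
    obtain ⟨c, hc⟩ := hgood.2 t hinvt
    refine ⟨c, ?_⟩
    rw [happ]
    exact congrArg (X.presheaf.map (eqToHom e).op).hom hc

end Groth.Agent.SGA1Quot
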