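import Mathlib
import Groth.Prelude.Def_SGA1
import Groth.Agent.SGA1Quot.Orbits

/-!
# Restricted actions, quotients of affine schemes, uniqueness of quotients
-/

set_option autoImplicit false
set_option linter.style.haveILetI false

universe u

open CategoryTheory AlgebraicGeometry Topology TopologicalSpace Opposite

namespace Groth.Agent.SGA1Quot

section Restrict

variable {X : Scheme.{u}} {G : Type u} [Group G] (ρ : G →* Aut X) (W : X.Opens)
  (hW : ∀ g : G, W ≤ (ρ g).hom ⁻¹ᵁ W)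

/-- The automorphism of a stable open induced by `g`. -/
noncomputable def restrictHom (g : G) : W.toScheme ⟶ W.toScheme :=
  (ρ g).hom.resLE W W (hW g)

theorem restrictHom_ι (g : G) : restrictHom ρ W hW g ≫ W.ι = W.ι ≫ (ρ g).hom :=
  Scheme.Hom.resLE_comp_ι _ _

theorem restrictHom_one : restrictHom ρ W hW 1 = 𝟙 _ := by
  rw [← cancel_mono W.ι, restrictHom_ι, map_one, Category.id_comp]
  exact Category.comp_id _

theorem restrictHom_mul (g h : G) :
    restrictHom ρ W hW (g * h) = restrictHom ρ W hW h ≫ restrictHom ρ W hW g := by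
  rw [← cancel_mono W.ι, restrictHom_ι, Category.assoc, restrictHom_ι, ← Category.assoc,
    restrictHom_ι, Category.assoc, map_mul]
  rfl

/-- The action induced on a stable open. -/
noncomputable def restrictAct : G →* Aut W.toScheme where
  toFun g :=
    { hom := restrictHom ρ W hW g
      inv := restrictHom ρ W hW g⁻¹
      hom_inv_id := by rw [← restrictHom_mul, inv_mul_cancel, restrictHom_one]
      inv_hom_id := by rw [← restrictHom_mul, mul_inv_cancel, restrictHom_one] }
  map_one' := Iso.ext (restrictHom_one ρ W hW)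
  map_mul' g h := Iso.ext (restrictHom_mul ρ W hW g h)

theorem restrictAct_ι (g : G) : (restrictAct ρ W hW g).hom ≫ W.ι = W.ι ≫ (ρ g).hom :=
  restrictHom_ι ρ W hW g

end Restrict

section AffineSource

variable {X : Scheme.{u}} {G : Type u} [Group G] (ρ : G →* Aut X)

/-- The ring of invariant global functions. -/
noncomputable def invSubring : Subring Γ(X, ⊤) :=
  ⨅ g : G, RingHom.eqLocus (ρ g).hom.appTop.hom (RingHom.id _)

theorem mem_invSubring (s : Γ(X, ⊤)) :
    s ∈ invSubring ρ ↔ ∀ g : G, (ρ g).hom.appTop.hom s = s := by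
  simp [invSubring, Subring.mem_iInf, RingHom.eqLocus]

/-- The candidate quotient of an affine scheme. -/
noncomputable def toInv : X ⟶ Spec (CommRingCat.of (invSubring ρ)) :=
  X.toSpecΓ ≫ Spec.map (CommRingCat.ofHom (invSubring ρ).subtype)

theorem toInv_inv (g : G) : (ρ g).hom ≫ toInv ρ = toInv ρ := by
  rw [toInv, ← Category.assoc, Scheme.toSpecΓ_naturality, Category.assoc, ← Spec.map_comp]
  congr 2
  ext s
  exact (mem_invSubring ρ _).1 s.2 g

theorem toInv_appTop (s : Γ(Spec (CommRingCat.of (invSubring ρ)), ⊤)) :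
    (toInv ρ).appTop.hom s =
      ((invSubring ρ).subtype ((Scheme.ΓSpecIso _).hom.hom s)) := by
  have h : (toInv ρ).appTop = (Scheme.ΓSpecIso _).hom ≫
      CommRingCat.ofHom (invSubring ρ).subtype := by
    rw [toInv, Scheme.Hom.comp_appTop, Scheme.toSpecΓ_appTop]
    exact Scheme.ΓSpecIso_naturality _
  rw [h]; rfl

theorem isQuot_toInv [IsAffine X] [Finite G] : SGA1.IsQuot ρ (toInv ρ) := by
  haveI : IsAffineHom (toInv ρ) := isAffineHom_of_isAffine _
  refine isQuot_of_affine_cover (hinv := toInv_inv ρ) fun y =>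
    ⟨⊤, isAffineOpen_top _, trivial, ?_, fun s hs => ?_⟩
  · intro s t hst
    apply (Scheme.ΓSpecIso (CommRingCat.of (invSubring ρ))).commRingCatIsoToRingEquiv.injective
    apply Subtype.ext
    change (toInv ρ).appTop.hom s = (toInv ρ).appTop.hom t at hst
    rw [toInv_appTop, toInv_appTop] at hst
    exact hst
  · have hmem : s ∈ invSubring ρ := (mem_invSubring ρ s).2 fun g => by
      refine Eq.trans ?_ (hs g)
      rw [Scheme.Hom.appTop, Scheme.Hom.app_eq_appLE]
      rfl
    refine ⟨(Scheme.ΓSpecIso (CommRingCat.of (invSubring ρ))).inv.hom ⟨s, hmem⟩, ?_⟩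
    refine (toInv_appTop ρ _).trans ?_
    rw [← CommRingCat.comp_apply, Iso.inv_hom_id]
    rfl

variable {ρ}

/-- Two quotients are canonically isomorphic. -/
theorem exists_iso_of_isQuot [Finite G] {Y Y' : Scheme.{u}} {p : X ⟶ Y} {p' : X ⟶ Y'}
    (hp : SGA1.IsQuot ρ p) (hp' : SGA1.IsQuot ρ p') : ∃ e : Y ≅ Y', p ≫ e.hom = p' := by
  obtain ⟨a, ha, -⟩ := existsUnique_desc_of_isQuot hp p' hp'.inv
  obtain ⟨b, hb, -⟩ := existsUnique_desc_of_isQuot hp' p hp.inv
  refine ⟨⟨a, b, (existsUnique_desc_of_isQuot hp p hp.inv).unique ?_ (Category.comp_id p),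
    (existsUnique_desc_of_isQuot hp' p' hp'.inv).unique ?_ (Category.comp_id p')⟩, ha⟩
  · rw [← Category.assoc, ha, hb]
  · rw [← Category.assoc, hb, ha]

theorem isAffine_of_isQuot [IsAffine X] [Finite G] {Y : Scheme.{u}} {p : X ⟶ Y}
    (hp : SGA1.IsQuot ρ p) : IsAffine Y :=
  let ⟨e, _⟩ := exists_iso_of_isQuot hp (isQuot_toInv ρ)
  IsAffine.of_isIso e.hom

end AffineSource

section Restriction

variable {X Y : Scheme.{u}} {G : Type u} [Group G] [Finite G] {ρ : G →* Aut X} {p : X ⟶ Y}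

theorem exists_restrict_isQuot (hp : SGA1.IsQuot ρ p) (U : Y.Opens) :
    ∃ ρU : G →* Aut (p ⁻¹ᵁ U).toScheme, SGA1.IsQuot ρU (p ∣_ U) ∧
      ∀ g : G, (ρU g).hom ≫ (p ⁻¹ᵁ U).ι = (p ⁻¹ᵁ U).ι ≫ (ρ g).hom := by
  refine ⟨restrictAct ρ (p ⁻¹ᵁ U) fun g => SGA1.preimage_le_of_inv ρ p hp.inv g U, ?_,
    restrictAct_ι _ _ _⟩
  exact isQuot_morphismRestrict hp U _ (restrictAct_ι _ _ _)

theorem isAffineOpen_of_preimage (hp : SGA1.IsQuot ρ p) (U : Y.Opens)
    (h : IsAffineOpen (p ⁻¹ᵁ U)) : IsAffineOpen U := by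
  obtain ⟨ρU, hU, -⟩ := exists_restrict_isQuot hp U
  haveI : IsAffine (p ⁻¹ᵁ U).toScheme := h
  exact isAffine_of_isQuot hU

end Restriction

end Groth.Agent.SGA1Quot
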