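import Mathlib
import Groth.Prelude.Def_SGA1
import Groth.Agent.SGA1Quot.Affine

/-!
# Affineness, separatedness and finiteness of quotients
-/

set_option autoImplicit false
set_option linter.style.haveILetI false

universe u

open CategoryTheory CategoryTheory.Limits AlgebraicGeometry Topology TopologicalSpace

namespace Groth.Agent.SGA1Quot

variable {X Y Z : Scheme.{u}} {G : Type u} [Group G] [Finite G] {ρ : G →* Aut X} {p : X ⟶ Y}

theorem affine_separated_finite_iff (hp : SGA1.IsQuot ρ p) (f : X ⟶ Z) (q : Y ⟶ Z)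
    (hq : p ≫ q = f) :
    (IsAffineHom f ↔ IsAffineHom q) ∧ (IsSeparated f ↔ IsSeparated q) ∧
    (LocallyOfFiniteType f → IsFinite p) ∧
    (IsLocallyNoetherian Z → LocallyOfFiniteType f → QuasiCompact f →
      LocallyOfFiniteType q ∧ QuasiCompact q) := by
  haveI := hp.affine
  haveI hint := isIntegralHom_of_isQuot hp
  have hsurj := surjective hp
  haveI : Surjective p := ⟨hsurj⟩
  have hfin : LocallyOfFiniteType f → IsFinite p := fun hf => by
    haveI : LocallyOfFiniteType (p ≫ q) := hq ▸ hf
    haveI := locallyOfFiniteType_of_comp p q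
    exact IsFinite.iff_isIntegralHom_and_locallyOfFiniteType _ |>.2 ⟨hint, ‹_›⟩
  refine ⟨⟨fun hf => ?_, fun h => ?_⟩, ⟨fun hf => ?_, fun h => ?_⟩, hfin, fun hZ hf hc => ?_⟩
  · refine ⟨fun V hV => isAffineOpen_of_preimage hp _ ?_⟩
    rw [← Scheme.Hom.comp_preimage, hq]
    exact hV.preimage f
  · rw [← hq]; infer_instance
  · haveI : IsSeparated (p ≫ q) := hq ▸ hf
    refine ⟨IsClosedImmersion.of_isPreimmersion _ ?_⟩
    let m : pullback (p ≫ q) (p ≫ q) ⟶ pullback q q :=
      pullback.map (p ≫ q) (p ≫ q) q q p p (𝟙 Z) (Category.comp_id _) (Category.comp_id _)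
    haveI : UniversallyClosed m := MorphismProperty.pullbackMap (P := @UniversallyClosed)
      (f' := q) (g' := q) (inferInstanceAs (UniversallyClosed p))
      (inferInstanceAs (UniversallyClosed p)) rfl rfl
    have key : pullback.diagonal (p ≫ q) ≫ m = p ≫ pullback.diagonal q := by
      apply pullback.hom_ext
      · rw [Category.assoc, pullback.lift_fst, pullback.diagonal_fst_assoc, Category.assoc,
          pullback.diagonal_fst, Category.comp_id]
      · rw [Category.assoc, pullback.lift_snd, pullback.diagonal_snd_assoc, Category.assoc,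
          pullback.diagonal_snd, Category.comp_id]
    have h1 : Set.range (pullback.diagonal q).base =
        m.base '' Set.range (pullback.diagonal (p ≫ q)).base := by
      rw [← Set.range_comp]
      have e : m.base ∘ (pullback.diagonal (p ≫ q)).base =
          (pullback.diagonal q).base ∘ p.base := by
        funext x
        exact congrArg (fun k : X ⟶ pullback q q => k.base x) key
      rw [e, hsurj.range_comp]
    rw [h1]
    exact m.isClosedMap _
      (pullback.diagonal (p ≫ q)).isClosedEmbedding.isClosed_range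
  · rw [← hq]; infer_instance
  · haveI := hfin hf
    haveI := hZ
    haveI : LocallyOfFiniteType (p ≫ q) := hq ▸ hf
    refine ⟨⟨fun {V} hV {U} hU e => ?_⟩, ?_⟩
    · have hU' := hU.preimage p
      let b := q.appLE V U e
      let a := p.app U
      have hA : (b ≫ a).hom.FiniteType := by
        simp only [b, a]
        rw [Scheme.Hom.app_eq_appLE, Scheme.Hom.appLE_comp_appLE]
        exact (p ≫ q).finiteType_appLE hV hU' _
      letI : Algebra Γ(Z, V) Γ(Y, U) := b.hom.toAlgebra
      letI : Algebra Γ(Y, U) Γ(X, p ⁻¹ᵁ U) := a.hom.toAlgebra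
      letI : Algebra Γ(Z, V) Γ(X, p ⁻¹ᵁ U) := (b ≫ a).hom.toAlgebra
      haveI : IsScalarTower Γ(Z, V) Γ(Y, U) Γ(X, p ⁻¹ᵁ U) :=
        IsScalarTower.of_algebraMap_eq fun _ => rfl
      haveI : Algebra.FiniteType Γ(Z, V) Γ(X, p ⁻¹ᵁ U) := hA
      haveI : Module.Finite Γ(Y, U) Γ(X, p ⁻¹ᵁ U) := p.finite_app U hU
      haveI : IsNoetherianRing Γ(Z, V) := IsLocallyNoetherian.component_noetherian ⟨V, hV⟩
      exact ⟨fg_of_fg_of_fg Γ(Z, V) Γ(Y, U) Γ(X, p ⁻¹ᵁ U) Algebra.FiniteType.out
        Module.Finite.fg_top (hp.injective U)⟩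
    · haveI : QuasiCompact (p ≫ q) := hq ▸ hc
      refine ⟨fun U hU hU' => ?_⟩
      have e : (q.base ⁻¹' U) = p.base '' ((p ≫ q).base ⁻¹' U) := by
        rw [Scheme.Hom.comp_base, TopCat.coe_comp, Set.preimage_comp,
          hsurj.image_preimage]
      rw [e]
      exact ((p ≫ q).isCompact_preimage (U := ⟨U, hU⟩) hU').image p.base.hom.continuous

end Groth.Agent.SGA1Quot
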