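import Mathlib
import Groth.Prelude.Def_SGA1
import Groth.Agent.SGA1Quot.Affine

/-!
# Existence of quotients when orbits are contained in affine opens
-/

set_option autoImplicit false
set_option linter.style.haveILetI false

universe u

open CategoryTheory CategoryTheory.Limits AlgebraicGeometry Topology TopologicalSpace

namespace Groth.Agent.SGA1Quot

/-- A finite set of points of an affine open lying in a smaller open lies in a basic open there. -/
theorem exists_basicOpen_finite {X : Scheme.{u}} {U : X.Opens} (hU : IsAffineOpen U)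
    (O : X.Opens) {ι : Type*} [Finite ι] (t : ι → X) (ht : ∀ i, t i ∈ U ⊓ O) :
    ∃ f : Γ(X, U), X.basicOpen f ≤ O ∧ ∀ i, t i ∈ X.basicOpen f := by
  classical
  cases nonempty_fintype ι
  obtain ⟨I, hI⟩ := (PrimeSpectrum.isClosed_iff_zeroLocus_ideal _).1
    ((hU.fromSpec ⁻¹ᵁ O).isOpen.isClosed_compl)
  have hout : ∀ i, ¬ I ≤ (hU.primeIdealOf ⟨t i, (ht i).1⟩).asIdeal := by
    intro i hle
    have hmem : hU.primeIdealOf ⟨t i, (ht i).1⟩ ∈ PrimeSpectrum.zeroLocus (I : Set Γ(X, U)) := hle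
    rw [← hI] at hmem
    apply hmem
    change hU.fromSpec.base _ ∈ O
    rw [hU.fromSpec_primeIdealOf]
    exact (ht i).2
  obtain ⟨f, hfI, hf⟩ : ∃ f ∈ I, ∀ i, f ∉ (hU.primeIdealOf ⟨t i, (ht i).1⟩).asIdeal := by
    by_contra! hne
    rcases isEmpty_or_nonempty ι with hι | ⟨⟨a⟩⟩
    · obtain ⟨i, -⟩ := hne 0 I.zero_mem
      exact hι.false i
    have hsub : (I : Set Γ(X, U)) ⊆ ⋃ i ∈ (↑(Finset.univ : Finset ι) : Set ι),
        ((hU.primeIdealOf ⟨t i, (ht i).1⟩).asIdeal : Set Γ(X, U)) := fun f hf => by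
      obtain ⟨i, hi⟩ := hne f hf
      exact Set.mem_biUnion (Finset.mem_coe.2 (Finset.mem_univ i)) hi
    obtain ⟨i, -, hi⟩ := (Ideal.subset_union_prime (R := Γ(X, U)) a a
      fun i _ _ _ => (hU.primeIdealOf ⟨t i, (ht i).1⟩).isPrime).1 hsub
    exact hout i hi
  refine ⟨f, ?_, fun i => ?_⟩
  · rw [← hU.fromSpec_image_basicOpen]
    rintro _ ⟨q, hq, rfl⟩
    by_contra hn
    have : q ∈ PrimeSpectrum.zeroLocus (I : Set Γ(X, U)) := by rw [← hI]; exact hn
    exact hq (this hfI)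
  · rw [← hU.fromSpec_image_basicOpen]
    exact ⟨hU.primeIdealOf ⟨t i, (ht i).1⟩, hf i, hU.fromSpec_primeIdealOf _⟩

theorem mem_finset_inf {T : Type*} [TopologicalSpace T] {ι : Type*} (s : Finset ι)
    (f : ι → Opens T) (z : T) : z ∈ s.inf f ↔ ∀ i ∈ s, z ∈ f i := by
  classical
  induction s using Finset.induction with
  | empty => simp
  | insert a s ha ih => simp [Finset.inf_insert, ← ih]

variable {X : Scheme.{u}} {G : Type u} [Group G] (ρ : G →* Aut X)

/-- A stable affine open. -/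
abbrev StableAffine : Type u :=
  { W : X.Opens // IsAffineOpen W ∧ ∀ g : G, W ≤ (ρ g).hom ⁻¹ᵁ W }

variable [Finite G]

theorem exists_stable_affine
    (h : ∀ x : X, ∃ U : X.Opens, IsAffineOpen U ∧ ∀ g : G, (ρ g).hom.base x ∈ U)
    (x : X) (O : X.Opens) (hO : ∀ g : G, O ≤ (ρ g).hom ⁻¹ᵁ O) (hx : x ∈ O) :
    ∃ W : StableAffine ρ, x ∈ W.1 ∧ W.1 ≤ O := by
  classical
  cases nonempty_fintype G
  obtain ⟨U, hU, hxU⟩ := h x
  have hmul : ∀ g g' : G, (ρ g).hom ≫ (ρ g').hom = (ρ (g' * g)).hom := fun g g' => by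
    rw [map_mul]; rfl
  let O' : X.Opens := Finset.univ.inf fun g : G => (ρ g).hom ⁻¹ᵁ (O ⊓ U)
  have hO'le : ∀ g : G, O' ≤ (ρ g).hom ⁻¹ᵁ (O ⊓ U) := fun g => Finset.inf_le (Finset.mem_univ g)
  have hone : (ρ 1).hom = 𝟙 X := by rw [map_one]; rfl
  have hO'1 : O' ≤ O ⊓ U := fun z hz => by
    have := hO'le 1 hz
    rw [hone] at this
    exact this
  have hmemO' : ∀ z : X, z ∈ O' ↔ ∀ g : G, (ρ g).hom.base z ∈ O ⊓ U := by
    intro z
    exact ⟨fun hz g => hO'le g hz, fun hz => (mem_finset_inf _ _ z).2 fun g _ => hz g⟩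
  have hcomp : ∀ (g g' : G) (z : X),
      (ρ g').hom.base ((ρ g).hom.base z) = (ρ (g' * g)).hom.base z := fun g g' z => by
    rw [← Scheme.Hom.comp_apply, hmul]
  have hO'stable : ∀ g : G, O' ≤ (ρ g).hom ⁻¹ᵁ O' := fun g z hz => by
    change (ρ g).hom.base z ∈ O'
    rw [hmemO']
    intro g'
    rw [hcomp]
    exact hO'le (g' * g) hz
  have hxO' : ∀ g : G, (ρ g).hom.base x ∈ U ⊓ O' := fun g => by
    refine ⟨hxU g, (hmemO' _).2 fun g' => ?_⟩
    rw [hcomp]
    exact ⟨hO (g' * g) hx, hxU _⟩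
  obtain ⟨f, hfle, hft⟩ := exists_basicOpen_finite hU O' _ hxO'
  let a : G → Γ(X, O') := fun g => (ρ g).hom.appLE U O' (fun z hz => (hO'le g hz).2) f
  let W : X.Opens := X.basicOpen (∏ g, a g)
  have hWO' : W ≤ O' := X.basicOpen_le _
  have hWmem : ∀ z : X, z ∈ W ↔ z ∈ O' ∧ ∀ g : G, (ρ g).hom.base z ∈ X.basicOpen f := by
    intro z
    by_cases hz : z ∈ O'
    · change z ∈ X.basicOpen (∏ g, a g) ↔ _
      rw [X.mem_basicOpen _ z hz, map_prod, IsUnit.prod_univ_iff]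
      refine ⟨fun hu => ⟨hz, fun g => ?_⟩, fun hu g => ?_⟩
      · have := (X.mem_basicOpen _ z hz).2 (hu g)
        rw [Scheme.basicOpen_appLE] at this
        exact this.2
      · refine (X.mem_basicOpen _ z hz).1 ?_
        rw [Scheme.basicOpen_appLE]
        exact ⟨hz, hu.2 g⟩
    · exact ⟨fun hw => absurd (hWO' hw) hz, fun hw => absurd hw.1 hz⟩
  have hWf : W ≤ X.basicOpen f := fun z hz => by
    have := ((hWmem z).1 hz).2 1
    rwa [hone] at this
  refine ⟨⟨W, ?_, fun g z hz => ?_⟩, ?_, hWO'.trans (hO'1.trans inf_le_left)⟩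
  · have h2 : X.basicOpen (X.presheaf.map (homOfLE hfle).op (∏ g, a g)) = W := by
      rw [Scheme.basicOpen_res]
      exact inf_eq_right.2 hWf
    rw [← h2]
    exact (hU.basicOpen f).basicOpen _
  · change (ρ g).hom.base z ∈ W
    rw [hWmem]
    refine ⟨hO'stable g (hWO' hz), fun g' => ?_⟩
    rw [hcomp]
    exact ((hWmem z).1 hz).2 _
  · rw [hWmem]
    refine ⟨?_, hft⟩
    have := (hxO' 1).2
    rwa [hone] at this

/-- Quotient of a stable affine open. -/
noncomputable def quotObj (W : StableAffine ρ) : Scheme.{u} :=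
  Spec (CommRingCat.of (invSubring (restrictAct ρ W.1 W.2.2)))

noncomputable def quotProj (W : StableAffine ρ) : W.1.toScheme ⟶ quotObj ρ W :=
  toInv (restrictAct ρ W.1 W.2.2)

instance isAffine_quotObj (W : StableAffine ρ) : IsAffine (quotObj ρ W) :=
  inferInstanceAs (IsAffine (Spec _))

theorem isQuot_quotProj (W : StableAffine ρ) :
    SGA1.IsQuot (restrictAct ρ W.1 W.2.2) (quotProj ρ W) :=
  haveI : IsAffine W.1.toScheme := W.2.1
  isQuot_toInv _

theorem homOfLE_comp_inv {W W' : StableAffine ρ} (hle : W.1 ≤ W'.1) (g : G) :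
    (restrictAct ρ W.1 W.2.2 g).hom ≫ X.homOfLE hle ≫ quotProj ρ W' =
      X.homOfLE hle ≫ quotProj ρ W' := by
  have : (restrictAct ρ W.1 W.2.2 g).hom ≫ X.homOfLE hle =
      X.homOfLE hle ≫ (restrictAct ρ W'.1 W'.2.2 g).hom := by
    rw [← cancel_mono W'.1.ι, Category.assoc, Category.assoc, Scheme.homOfLE_ι,
      restrictAct_ι, restrictAct_ι, Scheme.homOfLE_ι_assoc]
  rw [← Category.assoc, this, Category.assoc, (isQuot_quotProj ρ W').inv g]

noncomputable def quotMap {W W' : StableAffine ρ} (hle : W.1 ≤ W'.1) :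
    quotObj ρ W ⟶ quotObj ρ W' :=
  (existsUnique_desc_of_isQuot (isQuot_quotProj ρ W) (X.homOfLE hle ≫ quotProj ρ W')
    (homOfLE_comp_inv ρ hle)).exists.choose

theorem quotProj_quotMap {W W' : StableAffine ρ} (hle : W.1 ≤ W'.1) :
    quotProj ρ W ≫ quotMap ρ hle = X.homOfLE hle ≫ quotProj ρ W' :=
  (existsUnique_desc_of_isQuot (isQuot_quotProj ρ W) (X.homOfLE hle ≫ quotProj ρ W')
    (homOfLE_comp_inv ρ hle)).exists.choose_spec

theorem quotProj_epi (W : StableAffine ρ) : Epi (quotProj ρ W) :=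
  epi_of_app_injective _ (surjective (isQuot_quotProj ρ W)) (isQuot_quotProj ρ W).injective

theorem quotProj_base_eq_iff (W : StableAffine ρ) (x x' : W.1) :
    (quotProj ρ W).base x = (quotProj ρ W).base x' ↔
      ∃ g : G, (ρ g).hom.base x.1 = x'.1 := by
  refine (eq_iff_exists (isQuot_quotProj ρ W) x x').trans (exists_congr fun g => ?_)
  have := congrArg (fun k : W.1.toScheme ⟶ X => k.base x) (restrictAct_ι ρ W.1 W.2.2 g)
  simp only [Scheme.Hom.comp_apply] at this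
  refine Iff.trans ?_ (Eq.congr_left this)
  exact ⟨fun e => congrArg Subtype.val e, fun e => Subtype.ext e⟩

instance isOpenImmersion_quotMap {W W' : StableAffine ρ} (hle : W.1 ≤ W'.1) :
    IsOpenImmersion (quotMap ρ hle) := by
  have hp' := isQuot_quotProj ρ W'
  let p' := quotProj ρ W'
  let U : (quotObj ρ W').Opens := ⟨p'.base '' (W'.1.ι ⁻¹ᵁ W.1 : Set W'.1), by
    rw [← (isQuotientMap hp').isOpen_preimage]
    have : p'.base ⁻¹' (p'.base '' (W'.1.ι ⁻¹ᵁ W.1 : Set W'.1)) = W'.1.ι ⁻¹ᵁ W.1 := by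
      ext z
      refine ⟨?_, fun hz => ⟨z, hz, rfl⟩⟩
      rintro ⟨w, hw, he⟩
      obtain ⟨g, hg⟩ := (quotProj_base_eq_iff ρ W' w z).1 he
      change z.1 ∈ W.1
      rw [← hg]
      exact W.2.2 g hw
    rw [this]
    exact (W'.1.ι ⁻¹ᵁ W.1).isOpen⟩
  have hpre : p' ⁻¹ᵁ U = W'.1.ι ⁻¹ᵁ W.1 := by
    ext z
    refine ⟨?_, fun hz => ⟨z, hz, rfl⟩⟩
    rintro ⟨w, hw, he⟩
    obtain ⟨g, hg⟩ := (quotProj_base_eq_iff ρ W' w z).1 he
    change z.1 ∈ W.1
    rw [← hg]
    exact W.2.2 g hw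
  obtain ⟨ρU, hU, hρU⟩ := exists_restrict_isQuot hp' U
  let ι' : (p' ⁻¹ᵁ U).toScheme ⟶ X := (p' ⁻¹ᵁ U).ι ≫ W'.1.ι
  have hr : Set.range W.1.ι.base = Set.range ι'.base := by
    ext z
    simp only [ι', Scheme.Hom.comp_base, TopCat.coe_comp, Set.range_comp,
      Scheme.Opens.range_ι]
    constructor
    · intro hz
      refine ⟨⟨z, hle hz⟩, ?_, rfl⟩
      rw [hpre]; exact hz
    · rintro ⟨w, hw, rfl⟩
      rw [hpre] at hw; exact hw
  let e : W.1.toScheme ≅ (p' ⁻¹ᵁ U).toScheme := IsOpenImmersion.isoOfRangeEq W.1.ι ι' hr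
  have he : e.hom ≫ (p' ⁻¹ᵁ U).ι ≫ W'.1.ι = W.1.ι :=
    IsOpenImmersion.isoOfRangeEq_hom_fac _ _ _
  have heq : ∀ g : G, (restrictAct ρ W.1 W.2.2 g).hom ≫ e.hom = e.hom ≫ (ρU g).hom := by
    intro g
    rw [← cancel_mono ι']
    calc ((restrictAct ρ W.1 W.2.2 g).hom ≫ e.hom) ≫ ι'
        = (restrictAct ρ W.1 W.2.2 g).hom ≫ W.1.ι :=
          (Category.assoc _ _ _).trans (congrArg (_ ≫ ·) he)
      _ = W.1.ι ≫ (ρ g).hom := restrictAct_ι ρ W.1 W.2.2 g
      _ = (e.hom ≫ (p' ⁻¹ᵁ U).ι ≫ W'.1.ι) ≫ (ρ g).hom := by rw [he]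
      _ = e.hom ≫ (p' ⁻¹ᵁ U).ι ≫ (restrictAct ρ W'.1 W'.2.2 g).hom ≫ W'.1.ι :=
          (Category.assoc _ _ _).trans (congrArg (e.hom ≫ ·) ((Category.assoc _ _ _).trans
            (congrArg ((p' ⁻¹ᵁ U).ι ≫ ·) (restrictAct_ι ρ W'.1 W'.2.2 g).symm)))
      _ = (e.hom ≫ (ρU g).hom) ≫ ι' := by
          rw [← Category.assoc (p' ⁻¹ᵁ U).ι, ← hρU g]
          simp only [ι', Category.assoc]; rfl
  have hinv : ∀ g : G, (restrictAct ρ W.1 W.2.2 g).hom ≫ e.hom ≫ (p' ∣_ U) =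
      e.hom ≫ (p' ∣_ U) := fun g => by rw [reassoc_of% (heq g), hU.inv g]
  obtain ⟨a, ha, -⟩ := existsUnique_desc_of_isQuot (isQuot_quotProj ρ W) _ hinv
  have hinv' : ∀ g : G, (ρU g).hom ≫ e.inv ≫ quotProj ρ W = e.inv ≫ quotProj ρ W := fun g => by
    have : (ρU g).hom ≫ e.inv = e.inv ≫ (restrictAct ρ W.1 W.2.2 g).hom := by
      rw [Iso.eq_inv_comp, ← Category.assoc, ← heq g, Category.assoc, e.hom_inv_id,
        Category.comp_id]
    rw [reassoc_of% this, (isQuot_quotProj ρ W).inv g]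
  obtain ⟨b, hb, -⟩ := existsUnique_desc_of_isQuot hU _ hinv'
  haveI := quotProj_epi ρ W
  haveI : Epi (p' ∣_ U) := epi_of_app_injective _ (surjective hU) hU.injective
  haveI : IsIso a := ⟨b,
    by rw [← cancel_epi (quotProj ρ W), reassoc_of% ha, hb, Iso.hom_inv_id_assoc,
      Category.comp_id],
    by rw [← cancel_epi (p' ∣_ U), reassoc_of% hb, ha, Iso.inv_hom_id_assoc, Category.comp_id]⟩
  have : quotMap ρ hle = a ≫ U.ι := by
    rw [← cancel_epi (quotProj ρ W), quotProj_quotMap, reassoc_of% ha, morphismRestrict_ι,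
      ← Category.assoc]
    congr 1
    rw [← cancel_mono W'.1.ι, Scheme.homOfLE_ι, Category.assoc, he]
  rw [this]
  infer_instance

/-- The diagram of quotients of stable affine opens. -/
noncomputable def quotFunctor : StableAffine ρ ⥤ Scheme.{u} where
  obj W := quotObj ρ W
  map i := quotMap ρ (leOfHom i)
  map_id W := by
    haveI := quotProj_epi ρ W
    rw [← cancel_epi (quotProj ρ W), quotProj_quotMap, Scheme.homOfLE_rfl, Category.id_comp]
    exact (Category.comp_id _).symm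
  map_comp {W W' W''} i j := by
    haveI := quotProj_epi ρ W
    rw [← cancel_epi (quotProj ρ W), quotProj_quotMap, reassoc_of% (quotProj_quotMap ρ (leOfHom i)),
      quotProj_quotMap, Scheme.homOfLE_homOfLE_assoc]

instance {W W' : StableAffine ρ} (i : W ⟶ W') : IsOpenImmersion ((quotFunctor ρ).map i) :=
  isOpenImmersion_quotMap ρ _

theorem quotProj_quotMap_apply {W W' : StableAffine ρ} (hle : W.1 ≤ W'.1) (x : W.1) :
    (quotMap ρ hle).base ((quotProj ρ W).base x) = (quotProj ρ W').base ⟨x.1, hle x.2⟩ := by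
  rw [← Scheme.Hom.comp_apply, quotProj_quotMap, Scheme.Hom.comp_apply]
  congr 1
  exact Subtype.ext (by
    rw [← Scheme.Opens.ι_apply, ← Scheme.Hom.comp_apply, Scheme.homOfLE_ι]; rfl)

theorem exists_quotient
    (h : ∀ x : X, ∃ U : X.Opens, IsAffineOpen U ∧ ∀ g : G, (ρ g).hom.base x ∈ U) :
    ∃ (Y : Scheme.{u}) (p : X ⟶ Y), SGA1.IsQuot ρ p := by
  classical
  have htop : ∀ g : G, (⊤ : X.Opens) ≤ (ρ g).hom ⁻¹ᵁ ⊤ := fun _ => by simp
  haveI hdir : (quotFunctor ρ ⋙ Scheme.forget).IsLocallyDirected := by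
    constructor
    intro W₁ W₂ W₃ i₁ i₂ y₁ y₂ he
    obtain ⟨x₁, rfl⟩ := surjective (isQuot_quotProj ρ W₁) y₁
    obtain ⟨x₂, rfl⟩ := surjective (isQuot_quotProj ρ W₂) y₂
    change (quotMap ρ (leOfHom i₁)).base _ = (quotMap ρ (leOfHom i₂)).base _ at he
    rw [quotProj_quotMap_apply, quotProj_quotMap_apply, quotProj_base_eq_iff] at he
    obtain ⟨g, hg⟩ := he
    have hx₂ : x₁.1 ∈ W₂.1 := by
      have := W₂.2.2 g⁻¹ x₂.2
      change (ρ g⁻¹).hom.base x₂.1 ∈ W₂.1 at this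
      simp only at hg
      rw [← hg, ← Scheme.Hom.comp_apply] at this
      have e : (ρ g).hom ≫ (ρ g⁻¹).hom = 𝟙 X := by
        rw [map_inv]; exact (ρ g).hom_inv_id
      rw [e] at this
      exact this
    obtain ⟨W, hxW, hW⟩ := exists_stable_affine ρ h x₁.1 (W₁.1 ⊓ W₂.1)
      (fun k z hz => ⟨W₁.2.2 k hz.1, W₂.2.2 k hz.2⟩) ⟨x₁.2, hx₂⟩
    refine ⟨W, homOfLE (hW.trans inf_le_left : W.1 ≤ W₁.1),
      homOfLE (hW.trans inf_le_right : W.1 ≤ W₂.1), (quotProj ρ W).base ⟨x₁.1, hxW⟩, ?_, ?_⟩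
    · exact quotProj_quotMap_apply ρ _ _
    · refine (quotProj_quotMap_apply ρ (hW.trans inf_le_right) _).trans ?_
      exact (quotProj_base_eq_iff ρ W₂ _ _).2 ⟨g, hg⟩
  have hcov : TopologicalSpace.IsOpenCover fun W : StableAffine ρ => W.1 :=
    TopologicalSpace.IsOpenCover.mk (eq_top_iff.2 fun x _ => by
      obtain ⟨W, hx, -⟩ := exists_stable_affine ρ h x ⊤ htop trivial
      exact Opens.mem_iSup.2 ⟨W, hx⟩)
  let 𝒰 : X.OpenCover := X.openCoverOfIsOpenCover _ hcov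
  letI : Category.{u} 𝒰.I₀ := inferInstanceAs (Category (StableAffine ρ))
  letI : 𝒰.LocallyDirected :=
    { trans := fun {i j} hij => X.homOfLE (leOfHom (X := StableAffine ρ) hij)
      trans_id := fun i => Scheme.homOfLE_rfl X _
      trans_comp := fun _ _ => (Scheme.homOfLE_homOfLE X _ _).symm
      w := fun _ => Scheme.homOfLE_ι X _
      directed := fun {W₁ W₂} z => by
        let x := (pullback.fst (𝒰.f W₁) (𝒰.f W₂) ≫ 𝒰.f W₁).base z
        have h1 : x ∈ (Subtype.val W₁ : X.Opens) := by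
          exact ((pullback.fst (𝒰.f W₁) (𝒰.f W₂)).base z).2
        have h2 : x ∈ (Subtype.val W₂ : X.Opens) := by
          have : x = (pullback.snd (𝒰.f W₁) (𝒰.f W₂) ≫ 𝒰.f W₂).base z := by
            simp only [x, pullback.condition]
          rw [this]
          exact ((pullback.snd (𝒰.f W₁) (𝒰.f W₂)).base z).2
        obtain ⟨W, hxW, hW⟩ := exists_stable_affine ρ h x (Subtype.val W₁ ⊓ Subtype.val W₂)
          (fun k z hz => ⟨W₁.2.2 k hz.1, W₂.2.2 k hz.2⟩) ⟨h1, h2⟩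
        refine ⟨W, homOfLE (X := StableAffine ρ) (hW.trans inf_le_left : W.1 ≤ _),
          homOfLE (X := StableAffine ρ) (hW.trans inf_le_right : W.1 ≤ _), ⟨x, hxW⟩, ?_⟩
        apply (pullback.fst (𝒰.f W₁) (𝒰.f W₂) ≫ 𝒰.f W₁).isOpenEmbedding.injective
        rw [← Scheme.Hom.comp_apply, pullback.lift_fst_assoc]
        erw [Scheme.homOfLE_ι]
        rfl
      property_trans := fun {i j} hij =>
        (inferInstance : IsOpenImmersion (X.homOfLE (leOfHom (X := StableAffine ρ) hij))) }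
  let F := quotFunctor ρ
  let j : ∀ W : StableAffine ρ, quotObj ρ W ⟶ colimit F := fun W => colimit.ι F W
  let p : X ⟶ colimit F := 𝒰.glueMorphismsOfLocallyDirected (fun W => quotProj ρ W ≫ j W)
    fun {W W'} hij => by
      rw [← Category.assoc]
      refine Eq.trans (congrArg (· ≫ j W') (quotProj_quotMap ρ (leOfHom hij)).symm) ?_
      exact (Category.assoc _ _ _).trans (congrArg _ (colimit.w F hij))
  have hp : ∀ W : StableAffine ρ, W.1.ι ≫ p = quotProj ρ W ≫ j W := fun W =>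
    𝒰.map_glueMorphismsOfLocallyDirected _ _ W
  have hpb : ∀ (W : StableAffine ρ) (x : W.1),
      p.base x.1 = (j W).base ((quotProj ρ W).base x) := fun W x => by
    have := congrArg (fun k : W.1.toScheme ⟶ colimit F => k.base x) (hp W)
    simpa using this
  haveI : ∀ W, IsOpenImmersion (j W) := fun W =>
    inferInstanceAs (IsOpenImmersion (colimit.ι F W))
  have hinv : ∀ g : G, (ρ g).hom ≫ p = p := fun g => by
    refine 𝒰.hom_ext _ _ fun W => ?_
    change Scheme.Opens.ι (Subtype.val W) ≫ _ = Scheme.Opens.ι (Subtype.val W) ≫ _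
    rw [← Category.assoc, ← restrictAct_ι ρ _ (Subtype.property W).2 g, Category.assoc, hp,
      ← Category.assoc, (isQuot_quotProj ρ W).inv g]
  have hpre : ∀ W : StableAffine ρ, p ⁻¹ᵁ (j W).opensRange = W.1 := by
    intro W
    ext x
    refine ⟨?_, fun hx => ⟨(quotProj ρ W).base ⟨x, hx⟩, (hpb W ⟨x, hx⟩).symm⟩⟩
    rintro ⟨y, hy⟩
    obtain ⟨W', hxW', -⟩ := exists_stable_affine ρ h x ⊤ htop trivial
    rw [hpb W' ⟨x, hxW'⟩] at hy
    obtain ⟨W'', i, i', z, hz, hz'⟩ := (Scheme.IsLocallyDirected.ι_eq_ι_iff F).1 hy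
    obtain ⟨x'', rfl⟩ := surjective (isQuot_quotProj ρ W'') z
    change (quotMap ρ (leOfHom i')).base _ = _ at hz'
    rw [quotProj_quotMap_apply, quotProj_base_eq_iff] at hz'
    obtain ⟨g, hg⟩ := hz'
    change x ∈ W.1
    have : x''.1 ∈ W.1 := leOfHom i x''.2
    have h2 := W.2.2 g this
    simp only at hg
    rw [← hg]
    exact h2
  have hcovY : ∀ y : ↥(colimit F), ∃ W, y ∈ (j W).opensRange := fun y => by
    obtain ⟨W, y', hy'⟩ := Scheme.IsLocallyDirected.ι_jointly_surjective F y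
    exact ⟨W, y', hy'⟩
  haveI : IsAffineHom p := by
    refine isAffineHom_of_forall_exists_isAffineOpen p fun y => ?_
    obtain ⟨W, hy⟩ := hcovY y
    refine ⟨(j W).opensRange, hy, isAffineOpen_opensRange _, ?_⟩
    rw [hpre]; exact W.2.1
  refine ⟨colimit F, p, isQuot_of_affine_cover (hinv := hinv) fun y => ?_⟩
  obtain ⟨W, hy⟩ := hcovY y
  refine ⟨(j W).opensRange, isAffineOpen_opensRange _, hy, ?_⟩
  have hW := isQuot_quotProj ρ W
  have e1 : (⊤ : W.1.toScheme.Opens) ≤ W.1.ι ⁻¹ᵁ (p ⁻¹ᵁ (j W).opensRange) := by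
    intro x _
    change x.1 ∈ p ⁻¹ᵁ (j W).opensRange
    rw [hpre]; exact x.2
  let α : Γ(X, p ⁻¹ᵁ (j W).opensRange) ⟶ Γ(W.1.toScheme, quotProj ρ W ⁻¹ᵁ ⊤) :=
    W.1.ι.appLE _ _ e1
  let β : Γ(colimit F, (j W).opensRange) ⟶ Γ(quotObj ρ W, ⊤) :=
    (j W).appLE _ _ (fun y _ => ⟨y, rfl⟩)
  haveI : IsIso α := by
    simp only [α]
    rw [Scheme.Opens.ι_appLE]
    have e : W.1.ι ''ᵁ (quotProj ρ W ⁻¹ᵁ ⊤) = p ⁻¹ᵁ (j W).opensRange := by
      rw [hpre, Scheme.Hom.preimage_top, Scheme.Opens.ι_image_top]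
    rw [show homOfLE _ = eqToHom e from Subsingleton.elim _ _]
    exact (X.presheaf.mapIso (eqToIso e).op).isIso_hom
  haveI : IsIso β := by
    simp only [β]
    have e : (⊤ : (quotObj ρ W).Opens) = j W ⁻¹ᵁ (j W).opensRange := by simp
    haveI : IsIso ((j W).app (j W).opensRange) :=
      Scheme.Hom.isIso_app _ _ le_rfl
    rw [Scheme.Hom.appLE, show homOfLE _ = eqToHom e from Subsingleton.elim _ _]
    infer_instance
  have hcomm : p.app (j W).opensRange ≫ α = β ≫ (quotProj ρ W).app ⊤ := by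
    simp only [α, β, Scheme.Hom.app_eq_appLE, Scheme.Hom.appLE_comp_appLE]
    exact appLE_congr_hom (hp W) _ _ _
  have hαinj : Function.Injective α.hom := (ConcreteCategory.bijective_of_isIso α).1
  have hβ := ConcreteCategory.bijective_of_isIso β
  refine ⟨fun s t hst => ?_, fun s hs => ?_⟩
  · apply hβ.1
    apply hW.injective ⊤
    rw [← CommRingCat.comp_apply, ← CommRingCat.comp_apply, ← hcomm]
    simp only [CommRingCat.comp_apply, hst]
  · obtain ⟨t, ht⟩ := (hW.range_iff ⊤ (α.hom s)).2 fun g => by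
      have key : (ρ g).hom.appLE (p ⁻¹ᵁ (j W).opensRange) (p ⁻¹ᵁ (j W).opensRange)
            (SGA1.preimage_le_of_inv ρ p hinv g _) ≫ α =
          α ≫ (restrictAct ρ W.1 W.2.2 g).hom.appLE (quotProj ρ W ⁻¹ᵁ ⊤) (quotProj ρ W ⁻¹ᵁ ⊤)
            (SGA1.preimage_le_of_inv _ (quotProj ρ W) hW.inv g ⊤) := by
        simp only [α, Scheme.Hom.appLE_comp_appLE]
        exact (appLE_congr_hom (restrictAct_ι ρ W.1 W.2.2 g) _ _ _).symm
      have := ConcreteCategory.congr_hom key s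
      refine this.symm.trans (congrArg α.hom ?_)
      exact hs g
    obtain ⟨c, rfl⟩ := hβ.2 t
    refine ⟨c, hαinj ?_⟩
    rw [← ht]
    exact ConcreteCategory.congr_hom hcomm c

end Groth.Agent.SGA1Quot
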