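import Mathlib
import Groth.Prelude.Def_SGA1
import Groth.Agent.SGA1Quot.Basic

/-!
# Spectra of rings of invariants are quotients
-/

set_option autoImplicit false
set_option linter.style.haveILetI false

universe u

open CategoryTheory AlgebraicGeometry Topology TopologicalSpace Opposite

namespace Groth.Agent.SGA1Quot

theorem isQuot_Spec_map (G : Type u) [Group G] [Finite G] (A B : Type u) [CommRing A] [CommRing B]
    [Algebra B A] [MulSemiringAction G A] [SMulCommClass G B A] [Algebra.IsInvariant B A G]
    [FaithfulSMul B A] (ρ : G →* Aut (Spec (CommRingCat.of A)))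
    (hρ : Set.range (fun g : G => (ρ g).hom) =
      Set.range (fun g : G =>
        Spec.map (CommRingCat.ofHom (MulSemiringAction.toRingHom G A g)))) :
    SGA1.IsQuot ρ (Spec.map (CommRingCat.ofHom (algebraMap B A))) := by
  let p := Spec.map (CommRingCat.ofHom (algebraMap B A))
  have hinv : ∀ g : G, (ρ g).hom ≫ p = p := by
    intro g
    obtain ⟨g', hg'⟩ := (Set.ext_iff.1 hρ (ρ g).hom).1 ⟨g, rfl⟩
    rw [← hg']
    simp only [p, ← Spec.map_comp]
    congr 1
    ext b
    exact smul_algebraMap g' b
  refine isQuot_of_affine_cover (hinv := hinv) fun y => ⟨⊤, isAffineOpen_top _, trivial, ?_, ?_⟩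
  · intro s t hst
    have n1 : p.appTop ≫ (Scheme.ΓSpecIso _).hom =
        (Scheme.ΓSpecIso _).hom ≫ CommRingCat.ofHom (algebraMap B A) :=
      Scheme.ΓSpecIso_naturality _
    apply (Scheme.ΓSpecIso (CommRingCat.of B)).commRingCatIsoToRingEquiv.injective
    apply FaithfulSMul.algebraMap_injective B A
    have e1 := ConcreteCategory.congr_hom n1 s
    have e2 := ConcreteCategory.congr_hom n1 t
    change p.appTop.hom s = p.appTop.hom t at hst
    simp only [ConcreteCategory.comp_apply] at e1 e2
    exact e1.symm.trans ((congrArg _ hst).trans e2)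
  · intro s hs
    let e := (Scheme.ΓSpecIso (CommRingCat.of A)).commRingCatIsoToRingEquiv
    let eB := (Scheme.ΓSpecIso (CommRingCat.of B)).commRingCatIsoToRingEquiv
    obtain ⟨b, hb⟩ := Algebra.IsInvariant.isInvariant (A := B) (G := G) (e s) fun g' => by
      obtain ⟨g, hg⟩ := (Set.ext_iff.1 hρ _).2 ⟨g', rfl⟩
      simp only at hg
      have h1 : act ρ p hinv g ⊤ s = s := hs g
      have h2 : act ρ p hinv g ⊤ =
          ((ρ g).hom.appLE ⊤ ⊤ (SGA1.preimage_le_of_inv ρ p hinv g ⊤)).hom := rfl
      rw [h2, appLE_congr_hom hg] at h1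
      have n2 := ConcreteCategory.congr_hom (Scheme.ΓSpecIso_naturality
        (CommRingCat.ofHom (MulSemiringAction.toRingHom G A g'))) s
      simp only [ConcreteCategory.comp_apply] at n2
      rw [Scheme.Hom.appTop, Scheme.Hom.app_eq_appLE] at n2
      erw [h1] at n2
      exact n2.symm
    refine ⟨eB.symm b, ?_⟩
    have n1 := ConcreteCategory.congr_hom
      (Scheme.ΓSpecIso_naturality (CommRingCat.ofHom (algebraMap B A))) (eB.symm b)
    simp only [ConcreteCategory.comp_apply] at n1
    apply e.injective
    refine n1.trans ?_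
    refine Eq.trans ?_ hb
    exact congrArg _ (eB.apply_symm_apply b)

end Groth.Agent.SGA1Quot
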