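import Groth.Agent.SGA1Quot.Free
import Groth.Agent.SGA1Quot.BaseChange
import Groth.Agent.SGA1Quot.Affine

/-!
# Composition of quotients, geometric points of quotients
-/

set_option autoImplicit false
set_option linter.style.haveILetI false

universe u

open CategoryTheory CategoryTheory.Limits AlgebraicGeometry Topology TopologicalSpace

noncomputable section

namespace Groth.Agent.SGA1Quot

variable {X Z Y : Scheme.{u}} {G K L : Type u} [Group G] [Finite G] [Group K] [Finite K] [Group L]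
  [Finite L] {ρ : G →* Aut X} {p₁ : X ⟶ Z} {p₂ : Z ⟶ Y} {σ : L →* Aut Z}

theorem act_app_comm (ξ : G →* L) (hc : ∀ g, p₁ ≫ (σ (ξ g)).hom = (ρ g).hom ≫ p₁)
    (hi : ∀ g, (ρ g).hom ≫ (p₁ ≫ p₂) = p₁ ≫ p₂) (hi₂ : ∀ l, (σ l).hom ≫ p₂ = p₂)
    (g : G) (U : Y.Opens) (t : Γ(Z, p₂ ⁻¹ᵁ U)) :
    act ρ (p₁ ≫ p₂) hi g U ((p₁.app (p₂ ⁻¹ᵁ U)).hom t) =
      (p₁.app (p₂ ⁻¹ᵁ U)).hom (act σ p₂ hi₂ (ξ g) U t) := by
  have key : p₁.app (p₂ ⁻¹ᵁ U) ≫ (ρ g).hom.appLE (p₁ ⁻¹ᵁ (p₂ ⁻¹ᵁ U)) (p₁ ⁻¹ᵁ (p₂ ⁻¹ᵁ U))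
        (SGA1.preimage_le_of_inv ρ _ hi g U) =
      (σ (ξ g)).hom.appLE (p₂ ⁻¹ᵁ U) (p₂ ⁻¹ᵁ U) (SGA1.preimage_le_of_inv σ _ hi₂ (ξ g) U) ≫
        p₁.app (p₂ ⁻¹ᵁ U) := by
    simp only [Scheme.Hom.app_eq_appLE, Scheme.Hom.appLE_comp_appLE]
    exact appLE_congr_hom (hc g).symm _ _ _
  exact ConcreteCategory.congr_hom key t

/-- A quotient followed by a quotient by the residual group. -/
theorem isQuot_comp (ι : K →* G) (h₁ : SGA1.IsQuot (ρ.comp ι) p₁) (ξ : G →* L)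
    (hξ : Function.Surjective ξ) (hc : ∀ g, p₁ ≫ (σ (ξ g)).hom = (ρ g).hom ≫ p₁)
    (h₂ : SGA1.IsQuot σ p₂) : SGA1.IsQuot ρ (p₁ ≫ p₂) := by
  haveI := h₁.affine
  haveI := h₂.affine
  have hi : ∀ g, (ρ g).hom ≫ (p₁ ≫ p₂) = p₁ ≫ p₂ := fun g => by
    rw [← Category.assoc, ← hc, Category.assoc, h₂.inv]
  refine isQuot_of_good (hinv := hi) inferInstance fun U => ⟨?_, fun s hs => ?_⟩
  · rw [Scheme.Hom.comp_app]
    exact (h₁.injective _).comp (h₂.injective U)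
  · obtain ⟨t, rfl⟩ := (h₁.range_iff (p₂ ⁻¹ᵁ U) s).2 fun k => hs (ι k)
    have ht : ∀ l, act σ p₂ h₂.inv l U t = t := fun l => by
      obtain ⟨g, rfl⟩ := hξ l
      exact h₁.injective _ ((act_app_comm ξ hc hi h₂.inv g U t).symm.trans (hs g))
    obtain ⟨w, rfl⟩ := (h₂.range_iff U t).2 ht
    exact ⟨w, by rw [Scheme.Hom.comp_app]; rfl⟩

/-- The second map of a composite quotient is the quotient by the residual group. -/
theorem isQuot_of_comp (ι : K →* G) (h₁ : SGA1.IsQuot (ρ.comp ι) p₁) (ξ : G →* L)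
    (hξ : Function.Surjective ξ) (hc : ∀ g, p₁ ≫ (σ (ξ g)).hom = (ρ g).hom ≫ p₁)
    (h : SGA1.IsQuot ρ (p₁ ≫ p₂)) : SGA1.IsQuot σ p₂ := by
  haveI := epi_of_app_injective p₁ (surjective h₁) h₁.injective
  haveI := h.affine
  have hi₂ : ∀ l, (σ l).hom ≫ p₂ = p₂ := fun l => by
    obtain ⟨g, rfl⟩ := hξ l
    rw [← cancel_epi p₁, ← Category.assoc, hc, Category.assoc, h.inv]
  have ha : IsAffineHom p₂ := ⟨fun U hU => by
    refine isAffineOpen_of_preimage h₁ _ ?_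
    exact hU.preimage (p₁ ≫ p₂)⟩
  refine isQuot_of_good (hinv := hi₂) ha fun U => ⟨fun a b hab => ?_, fun t ht => ?_⟩
  · refine h.injective U ?_
    rw [Scheme.Hom.comp_app]
    exact congrArg (p₁.app (p₂ ⁻¹ᵁ U)).hom hab
  · obtain ⟨w, hw⟩ := (h.range_iff U ((p₁.app (p₂ ⁻¹ᵁ U)).hom t)).2 fun g =>
      (act_app_comm ξ hc h.inv hi₂ g U t).trans (by rw [ht])
    rw [Scheme.Hom.comp_app] at hw
    exact ⟨w, h₁.injective _ hw⟩

/-- Geometric points lift along a quotient. -/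
theorem exists_geom_lift {X Y : Scheme.{u}} {ρ : G →* Aut X} {p : X ⟶ Y} (hp : SGA1.IsQuot ρ p)
    {Ω : Type u} [Field Ω] [IsAlgClosed Ω] (τ : Spec (CommRingCat.of Ω) ⟶ Y) :
    ∃ τ' : Spec (CommRingCat.of Ω) ⟶ X, τ' ≫ p = τ := by
  obtain ⟨y, a, rfl⟩ := exists_point_map τ
  obtain ⟨x, rfl⟩ := surjective hp y
  letI : Algebra (Y.residueField (p.base x)) (X.residueField x) := (p.residueFieldMap x).hom.toAlgebra
  letI : Algebra (Y.residueField (p.base x)) Ω := a.hom.toAlgebra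
  haveI : Normal (Y.residueField (p.base x)) (X.residueField x) := (normal_and_surjective hp x).1
  let φ : X.residueField x →ₐ[Y.residueField (p.base x)] Ω := IsAlgClosed.lift
  refine ⟨Spec.map (CommRingCat.ofHom φ.toRingHom) ≫ X.fromSpecResidueField x, ?_⟩
  rw [Category.assoc, ← Scheme.Hom.SpecMap_residueFieldMap_fromSpecResidueField, ← Spec.map_comp_assoc]
  congr 2
  ext z
  exact φ.commutes z

/-- A morphism injective on points with values in algebraically closed fields is universally injective. -/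
theorem universallyInjective_of_geom {A B : Scheme.{u}} (φ : A ⟶ B)
    (h : ∀ (Ω : Type u) [Field Ω] [IsAlgClosed Ω] (a b : Spec (CommRingCat.of Ω) ⟶ A),
      a ≫ φ = b ≫ φ → a = b) : UniversallyInjective φ := by
  rw [UniversallyInjective.iff_diagonal]
  refine ⟨fun z => ?_⟩
  let Ω := AlgebraicClosure ((pullback φ φ).residueField z)
  let c : Spec (CommRingCat.of Ω) ⟶ pullback φ φ :=
    Spec.map (CommRingCat.ofHom (algebraMap ((pullback φ φ).residueField z) Ω)) ≫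
      (pullback φ φ).fromSpecResidueField z
  have he : c ≫ pullback.fst φ φ = c ≫ pullback.snd φ φ :=
    h Ω _ _ ((Category.assoc c _ _).trans ((congrArg (c ≫ ·) pullback.condition).trans (Category.assoc c _ _).symm))
  have hc : (c ≫ pullback.fst φ φ) ≫ pullback.diagonal φ = c := by
    refine pullback.hom_ext ?_ ?_
    · rw [Category.assoc, pullback.diagonal_fst, Category.comp_id]
    · rw [Category.assoc, pullback.diagonal_snd, Category.comp_id, he]
  refine ⟨(c ≫ pullback.fst φ φ) (IsLocalRing.closedPoint Ω), ?_⟩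
  rw [← Scheme.Hom.comp_apply, hc]
  exact (Scheme.Hom.comp_apply _ _ _).trans (Scheme.fromSpecResidueField_apply _ _)

end Groth.Agent.SGA1Quot
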