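import Groth.Agent.SGA1Quot.Comp
import Groth.Prelude.Def_Flat
import Mathlib.AlgebraicGeometry.Morphisms.SchemeTheoreticallyDominant

/-!
# Universal homeomorphisms out of quotients
-/

set_option autoImplicit false
set_option linter.style.haveILetI false

universe u

open CategoryTheory CategoryTheory.Limits AlgebraicGeometry Topology TopologicalSpace

noncomputable section

namespace Groth.Agent.SGA1Quot

theorem isUnivHomeo_of_closed {A B : Scheme.{u}} (m : A ⟶ B) [UniversallyClosed m] [Surjective m]
    [UniversallyInjective m] : FlatMor.IsUnivHomeo m := by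
  intro X' Y' i₁ i₂ f' h
  haveI : UniversallyClosed f' := MorphismProperty.of_isPullback (P := @UniversallyClosed) h.flip ‹_›
  haveI : Surjective f' := MorphismProperty.of_isPullback (P := @Surjective) h.flip ‹_›
  haveI : UniversallyInjective f' :=
    MorphismProperty.of_isPullback (P := @UniversallyInjective) h.flip ‹_›
  exact isHomeomorph_iff_continuous_isClosedMap_bijective.mpr
    ⟨f'.continuous, f'.isClosedMap, f'.injective, f'.surjective⟩

variable {X Y T : Scheme.{u}} {G : Type u} [Group G] [Finite G] {ρ : G →* Aut X} {r : X ⟶ Y}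

/-- A morphism out of a quotient is a universal homeomorphism if the composite is universally closed,
surjective, and has the orbits as geometric fibres. -/
theorem isUnivHomeo_of_quot (hr : SGA1.IsQuot ρ r) (m : Y ⟶ T) [UniversallyClosed (r ≫ m)]
    [Surjective (r ≫ m)]
    (hg : ∀ (Ω : Type u) [Field Ω] [IsAlgClosed Ω] (a b : Spec (CommRingCat.of Ω) ⟶ X),
      a ≫ r ≫ m = b ≫ r ≫ m → ∃ g : G, a ≫ (ρ g).hom = b) :
    FlatMor.IsUnivHomeo m := by
  haveI : Surjective r := ⟨surjective hr⟩
  haveI : Surjective m := Surjective.of_comp r m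
  haveI : UniversallyClosed m := UniversallyClosed.of_comp_surjective r m
  haveI : UniversallyInjective m := universallyInjective_of_geom m fun Ω _ _ a b hab => by
    obtain ⟨a', rfl⟩ := exists_geom_lift hr a
    obtain ⟨b', rfl⟩ := exists_geom_lift hr b
    obtain ⟨g, rfl⟩ := hg Ω a' b' ((Category.assoc _ _ _).symm.trans (hab.trans (Category.assoc _ _ _)))
    rw [Category.assoc, hr.inv]
  exact isUnivHomeo_of_closed m

end Groth.Agent.SGA1Quot

namespace Groth.Agent.SGA1Quot

/-- The map to the scheme-theoretic image is scheme-theoretically dominant. -/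
theorem isSchemeTheoreticallyDominant_toImage {A B : Scheme.{u}} (f : A ⟶ B) [QuasiCompact f] :
    IsSchemeTheoreticallyDominant f.toImage := by
  refine ⟨Scheme.IdealSheafData.ext_of_iSup_eq_top
    (fun U : B.affineOpens => ⟨f.imageι ⁻¹ᵁ U.1, U.2.preimage f.imageι⟩) ?_ fun U => ?_⟩
  · exact top_le_iff.mp fun x _ => by
      obtain ⟨U, hU, hx, -⟩ := exists_isAffineOpen_mem_and_subset (x := f.imageι x) (U := ⊤) trivial
      exact Opens.mem_iSup.mpr ⟨⟨U, hU⟩, hx⟩
  · rw [Scheme.Hom.ker_apply]
    exact (RingHom.injective_iff_ker_eq_bot _).mp (f.toImage_app_injective U)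

end Groth.Agent.SGA1Quot
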