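import Groth.Agent.SGA1Quot.Orbits
import Groth.Agent.AmpleLib.NormDesc
import Groth.Agent.S10963

/-!
# Norms along a quotient by a finite group; descent of relatively ample modules
-/

set_option autoImplicit false
set_option linter.style.haveILetI false
universe u

open CategoryTheory Limits AlgebraicGeometry Opposite TopologicalSpace

noncomputable section

namespace Groth.Agent.SGA1Quot

open Groth.Agent.QCoh Groth.Agent.AmpleLib Groth.Agent.Props.GenLocus Groth.Agent.Props.GenTensor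
  Groth.Agent.Props.GenProd

/-- An invertible module is generated near finitely many points of an affine open, none of which
specializes to another. -/
theorem exists_isGen_near {X : Scheme.{u}} {L : X.Modules} (hL : PicF.IsInvertible L)
    {A : X.Opens} (hA : IsAffineOpen A) {F : Set X} (hF : F.Finite) (hFA : F ⊆ A)
    (hsep : ∀ p ∈ F, ∀ q ∈ F, q ⤳ p → p = q) :
    ∃ (G : X.Opens) (e : Γ(L, G)), F ⊆ G ∧ IsGen L G e := by
  classical
  haveI : Fintype F := hF.fintype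
  have key : ∀ p : F, ∃ m : Γ(L, A), p.1 ∈ locus m ∧ ∀ q : F, q ≠ p → q.1 ∉ locus m := by
    intro p
    obtain ⟨U, e, hpU, he⟩ := exists_isGen hL p.1
    let O : X.Opens := ⟨(⋃ q ∈ F \ {p.1}, closure {q})ᶜ,
      ((hF.subset Set.sdiff_subset).isClosed_biUnion fun q _ => isClosed_closure).isOpen_compl⟩
    have hpO : p.1 ∈ O := by
      intro h
      obtain ⟨q, hq, hpq⟩ := Set.mem_iUnion₂.mp h
      exact hq.2 (hsep p.1 p.2 q hq.1 (specializes_iff_mem_closure.mpr hpq)).symm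
    obtain ⟨f, hfle, hpf⟩ := hA.exists_basicOpen_le (V := O ⊓ U) ⟨p.1, hpO, hpU⟩ (hFA p.2)
    obtain ⟨m, hm⟩ := exists_locus_eq hL hA.isCompact hA.isQuasiSeparated f rfl
      (QCoh.res L (hfle.trans inf_le_right) e)
    have hloc : locus (QCoh.res L (hfle.trans inf_le_right) e) = X.basicOpen f :=
      le_antisymm (locus_le _) (le_locus le_rfl (by rw [QCoh.res_self]; exact he.restrict _))
    refine ⟨m, by rw [hm, hloc]; exact hpf, fun q hqp hq => ?_⟩
    rw [hm, hloc] at hq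
    exact (hfle hq).1 (Set.mem_iUnion₂.mpr
      ⟨q.1, ⟨q.2, fun h => hqp (Subtype.ext h)⟩, subset_closure rfl⟩)
  choose m hm hm' using key
  refine ⟨locus (∑ p, m p), QCoh.res L (locus_le _) (∑ p, m p), fun q hq => ?_, isGen_locus _⟩
  obtain ⟨U, e, hqU, he⟩ := exists_isGen hL q
  have he' := he.restrict (inf_le_right : A ⊓ U ≤ U)
  choose c hc _ using fun p : F => he'.exists_eq le_rfl (QCoh.res L (inf_le_left : A ⊓ U ≤ A) (m p))
  simp only [QCoh.res_self] at hc
  have hqW : q ∈ A ⊓ U := ⟨hFA hq, hqU⟩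
  have hloc : ∀ p : F, q ∈ locus (m p) ↔ IsUnit (X.presheaf.germ (A ⊓ U) q hqW (c p)) := by
    intro p
    rw [← X.mem_basicOpen, ← locus_inf inf_le_left he' (m p) (hc p)]
    exact ⟨fun h => ⟨h, hqW⟩, fun h => h.1⟩
  have hsum : QCoh.res L (inf_le_left : A ⊓ U ≤ A) (∑ p, m p) = (∑ p, c p) • QCoh.res L inf_le_right e := by
    rw [map_sum, Finset.sum_smul]
    exact Finset.sum_congr rfl fun p _ => hc p
  have hu : q ∈ X.basicOpen (∑ p, c p) := by
    rw [X.mem_basicOpen _ q hqW, map_sum, ← Finset.add_sum_erase _ _ (Finset.mem_univ (⟨q, hq⟩ : F))]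
    refine IsLocalRing.notMem_maximalIdeal.mp fun hmem => ?_
    refine IsLocalRing.notMem_maximalIdeal.mpr ((hloc ⟨q, hq⟩).mp (hm _))
      ((Ideal.add_mem_iff_left _ (Ideal.sum_mem _ fun p hp => ?_)).mp hmem)
    exact (IsLocalRing.mem_maximalIdeal _).mpr fun h =>
      hm' p ⟨q, hq⟩ (Finset.ne_of_mem_erase hp).symm ((hloc p).mpr h)
  rw [← locus_inf inf_le_left he' _ hsum] at hu
  exact hu.1

variable {X Y : Scheme.{u}} {G : Type u} [Group G] [Fintype G] {ρ : G →* Aut X} {q : X ⟶ Y}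
  (hp : SGA1.IsQuot ρ q)

theorem exists_app_eq_prod (U : Y.Opens) (c : Γ(X, q ⁻¹ᵁ U)) :
    ∃ b : Γ(Y, U), (q.app U).hom b = ∏ g : G, act ρ q hp.inv g U c := by
  refine (hp.range_iff U _).2 fun h => ?_
  change act ρ q hp.inv h U (∏ g : G, act ρ q hp.inv g U c) = _
  rw [map_prod]
  refine Fintype.prod_equiv (Equiv.mulRight h) _ _ fun g => ?_
  rw [Equiv.coe_mulRight, act_mul]
  rfl

/-- The norm of a function along a quotient: the product of its translates. -/
def nrm (U : Y.Opens) : Γ(X, q ⁻¹ᵁ U) →* Γ(Y, U) where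
  toFun c := (exists_app_eq_prod hp U c).choose
  map_one' := hp.injective U (by
    rw [(exists_app_eq_prod hp U 1).choose_spec, map_one]
    simp only [map_one, Finset.prod_const_one])
  map_mul' a b := hp.injective U (by
    rw [map_mul, (exists_app_eq_prod hp U (a * b)).choose_spec,
      (exists_app_eq_prod hp U a).choose_spec, (exists_app_eq_prod hp U b).choose_spec]
    simp only [map_mul, Finset.prod_mul_distrib])

theorem app_nrm (U : Y.Opens) (c : Γ(X, q ⁻¹ᵁ U)) :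
    (q.app U).hom (nrm hp U c) = ∏ g : G, act ρ q hp.inv g U c :=
  (exists_app_eq_prod hp U c).choose_spec

theorem rres_nrm {U V : Y.Opens} (h : V ≤ U) (c : Γ(X, q ⁻¹ᵁ U)) :
    rres h (nrm hp U c) = nrm hp V (rres (q.preimage_mono h) c) := by
  apply hp.injective V
  rw [app_nrm]
  change (q.app V).hom ((Y.presheaf.map (homOfLE h).op).hom (nrm hp U c)) =
    ∏ g : G, act ρ q hp.inv g V (res q h c)
  rw [← res_comp_app, app_nrm, map_prod]
  exact Finset.prod_congr rfl fun g _ => (act_res ρ q hp.inv g h c).symm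

theorem mem_basicOpen_nrm {U : Y.Opens} (c : Γ(X, q ⁻¹ᵁ U)) (z : X) (hz : q z ∈ U) :
    q z ∈ Y.basicOpen (nrm hp U c) ↔ ∀ g : G, (ρ g).hom z ∈ X.basicOpen c := by
  change z ∈ q ⁻¹ᵁ Y.basicOpen (nrm hp U c) ↔ _
  rw [Scheme.preimage_basicOpen]
  change z ∈ X.basicOpen ((q.app U).hom (nrm hp U c)) ↔ _
  rw [app_nrm, X.mem_basicOpen _ z hz, map_prod, IsUnit.prod_univ_iff]
  refine forall_congr' fun g => ?_
  rw [← X.mem_basicOpen _ z hz, act, Scheme.basicOpen_appLE]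
  exact ⟨fun h => h.2, fun h => ⟨hz, h⟩⟩

omit [Group G] [Fintype G] in
theorem exists_gen_preimage [IsFinite q] {L : X.Modules} (hL : PicF.IsInvertible L) (y : Y) :
    ∃ (W : Y.Opens) (e : Γ(L, q ⁻¹ᵁ W)), y ∈ W ∧ IsGen L (q ⁻¹ᵁ W) e := by
  obtain ⟨A, hA, hyA, -⟩ := exists_isAffineOpen_mem_and_subset (X := Y) (x := y) (U := ⊤) trivial
  have hsep : ∀ p ∈ q ⁻¹' {y}, ∀ p' ∈ q ⁻¹' {y}, p' ⤳ p → p = p' := fun p hp₁ p' hp₂ h => by
    haveI := isDiscrete_iff_discreteTopology.mp (q.isDiscrete_preimage_singleton y)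
    have h' : (⟨p', hp₂⟩ : q ⁻¹' {y}) ⤳ ⟨p, hp₁⟩ :=
      Topology.IsInducing.subtypeVal.specializes_iff.mp h
    exact congrArg Subtype.val h'.eq.symm
  obtain ⟨G', e, hFG, he⟩ := exists_isGen_near hL (hA.preimage q) (q.finite_preimage_singleton y)
    (fun p hp₁ => show q p ∈ A from (show q p = y from hp₁) ▸ hyA) hsep
  let W : Y.Opens := ⟨(q '' ((G' : Set X)ᶜ))ᶜ, (q.isClosedMap _ G'.2.isClosed_compl).isOpen_compl⟩
  have hWG : q ⁻¹ᵁ W ≤ G' := fun z hz => by_contra fun h => hz ⟨z, h, rfl⟩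
  refine ⟨W, QCoh.res L hWG e, ?_, he.restrict hWG⟩
  rintro ⟨z, hz, hzy⟩
  exact hz (hFG hzy)

include hp

/-- The transition units pushed down by the norm satisfy the cocycle condition. -/
theorem nrm_cocycle {L : X.Modules} {W₁ W₂ W₃ : Y.Opens} {e₁ : Γ(L, q ⁻¹ᵁ W₁)}
    {e₂ : Γ(L, q ⁻¹ᵁ W₂)} {e₃ : Γ(L, q ⁻¹ᵁ W₃)} (he₃ : IsGen L (q ⁻¹ᵁ W₃) e₃)
    {T : Y.Opens} (h₁ : T ≤ W₁) (h₂ : T ≤ W₂) (h₃ : T ≤ W₃) (a b c : Γ(X, q ⁻¹ᵁ T))
    (ha : QCoh.res L (q.preimage_mono h₁) e₁ = a • QCoh.res L (q.preimage_mono h₃) e₃)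
    (hb : QCoh.res L (q.preimage_mono h₁) e₁ = b • QCoh.res L (q.preimage_mono h₂) e₂)
    (hc : QCoh.res L (q.preimage_mono h₂) e₂ = c • QCoh.res L (q.preimage_mono h₃) e₃) :
    nrm hp T a = nrm hp T b * nrm hp T c := by
  rw [← map_mul]
  congr 1
  refine he₃.injective (q.preimage_mono h₃) ?_
  rw [← ha, hb, hc, smul_smul]

/-- A relatively ample module on `X` descends, by norms, to one on the quotient. -/
theorem exists_isRelAmple_quotient [IsFinite q] {S : Scheme.{u}} (h : Y ⟶ S) [QuasiCompact h]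
    {L : X.Modules} (hLa : RelAmple.IsRelAmple (q ≫ h) L) :
    ∃ N : Y.Modules, RelAmple.IsRelAmple h N := by
  classical
  obtain ⟨-, hL, hamp⟩ := isRelAmple_iff.mp hLa
  choose W e hyW he using exists_gen_preimage (q := q) hL
  choose c hcu hc using fun i j : Y => exists_unit_smul
    ((he j).restrict (q.preimage_mono (inf_le_right : W i ⊓ W j ≤ W j)))
    ((he i).restrict (q.preimage_mono (inf_le_left : W i ⊓ W j ≤ W i)))
  let η : ∀ i j : Y, (Γ(Y, W i ⊓ W j))ˣ := fun i j => ((hcu i j).map (nrm hp (W i ⊓ W j))).unit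
  have hη : ∀ i j, (η i j : Γ(Y, W i ⊓ W j)) = nrm hp (W i ⊓ W j) (c i j) := fun i j => rfl
  have hcr : ∀ (i j : Y) (T : Y.Opens) (hT : T ≤ W i ⊓ W j),
      QCoh.res L (q.preimage_mono (hT.trans inf_le_left)) (e i) =
        rres (q.preimage_mono hT) (c i j) • QCoh.res L (q.preimage_mono (hT.trans inf_le_right)) (e j) := by
    intro i j T hT
    have h1 := congrArg (QCoh.res L (q.preimage_mono hT)) (hc i j)
    rwa [QCoh.res_smul, QCoh.res_res, QCoh.res_res] at h1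
  obtain ⟨N, s, hN, hs, hst⟩ := Groth.Agent.S10963.result Y W
    (eq_top_iff.mpr fun y _ => Opens.mem_iSup.mpr ⟨y, hyW y⟩) η (fun i j k => by
      change rres _ (η i k : Γ(Y, W i ⊓ W k)) = rres _ (η i j : Γ(Y, W i ⊓ W j)) *
        rres _ (η j k : Γ(Y, W j ⊓ W k))
      rw [hη, hη, hη, rres_nrm, rres_nrm, rres_nrm]
      exact nrm_cocycle hp (he k) (inf_le_left.trans inf_le_left) (inf_le_left.trans inf_le_right)
        inf_le_right _ _ _ (hcr i k _ (inf_le_inf_right (W k) inf_le_left)) (hcr i j _ inf_le_left)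
        (hcr j k _ (inf_le_inf_right (W k) inf_le_right)))
  have hsgen : ∀ i, IsGen N (W i) (s i) := fun i V hV => hs i V hV
  refine ⟨N, isRelAmple_iff.mpr ⟨inferInstance, hN, fun V => ?_⟩⟩
  let O : Y.Opens := h ⁻¹ᵁ V.1
  have hO : AmpleOn L (q ⁻¹ᵁ O) := hamp V
  refine ⟨h.isCompact_preimage V.2.isCompact, fun x hx => ?_⟩
  obtain ⟨U, hU, hxU, hUO⟩ := exists_isAffineOpen_mem_and_subset (X := Y) (x := x) (U := O) hx
  obtain ⟨n, σ, hEσ, hσU⟩ := AmpleLib.exists_superset_on hL hO (E := q ⁻¹' {x})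
    (q.finite_preimage_singleton x) (fun y hy => (show q y ∈ O from (show q y = x from hy) ▸ hx))
    (U := q ⁻¹ᵁ U) (fun y hy => (show q y ∈ U from (show q y = x from hy) ▸ hxU))
  let W' : Y → Y.Opens := fun i => W i ⊓ O
  have hW'O : ∀ i, W' i ≤ O := fun i => inf_le_right
  let e' : ∀ i, Γ(L, q ⁻¹ᵁ W' i) := fun i => QCoh.res L (q.preimage_mono inf_le_left) (e i)
  have he' : ∀ i, IsGen L (q ⁻¹ᵁ W' i) (e' i) := fun i => (he i).restrict _
  let a : ∀ i, Γ(X, q ⁻¹ᵁ W' i) := fun i => co (n + 1) σ (q.preimage_mono (hW'O i)) (he' i)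
  let b : ∀ i, Γ(Y, W' i) := fun i => nrm hp (W' i) (a i)
  let s' : ∀ i, Γ(N, W' i) := fun i => QCoh.res N inf_le_left (s i)
  have hs' : ∀ i, IsGen N (W' i) (s' i) := fun i => (hsgen i).restrict _
  obtain ⟨τ, hτ⟩ := QCoh.exists_glue (CohB1.tensorPow N (n + 1)) (U := W') (V := O) hW'O
    (fun z hz => Opens.mem_iSup.mpr ⟨z, hyW z, hz⟩)
    (fun i => b i • pw N (s' i) (n + 1)) fun i j => by
      have hT : W' i ⊓ W' j ≤ W i ⊓ W j := inf_le_inf inf_le_left inf_le_left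
      have h1 : QCoh.res N (inf_le_left : W' i ⊓ W' j ≤ W' i) (s' i) =
          nrm hp (W' i ⊓ W' j) (rres (q.preimage_mono hT) (c i j)) •
            QCoh.res N (inf_le_right : W' i ⊓ W' j ≤ W' j) (s' j) := by
        have h2 := congrArg (QCoh.res N hT) (hst i j)
        rw [← rres_nrm, ← hη]
        simp only [s', QCoh.res_res]
        change QCoh.res N hT (QCoh.res N _ (s i)) = QCoh.res N hT (_ • QCoh.res N _ (s j)) at h2
        rwa [QCoh.res_smul, QCoh.res_res, QCoh.res_res] at h2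
      have h3 : QCoh.res L (q.preimage_mono (inf_le_left : W' i ⊓ W' j ≤ W' i)) (e' i) =
          rres (q.preimage_mono hT) (c i j) •
            QCoh.res L (q.preimage_mono (inf_le_right : W' i ⊓ W' j ≤ W' j)) (e' j) := by
        simp only [e', QCoh.res_res]
        exact hcr i j _ hT
      have h4 : rres (inf_le_right : W' i ⊓ W' j ≤ W' j) (b j) =
          nrm hp (W' i ⊓ W' j) (rres (q.preimage_mono hT) (c i j)) ^ (n + 1) *
            rres (inf_le_left : W' i ⊓ W' j ≤ W' i) (b i) := by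
        simp only [b, a]
        rw [rres_nrm, rres_nrm, ← map_pow, ← map_mul, co_res, co_res]
        exact congrArg _ (Props.GenExt.co_of_eq_smul _ _ _ _ h3)
      rw [QCoh.res_smul, QCoh.res_smul, res_pw, res_pw, h1, pw_smul, smul_smul, h4]
      exact congrArg (· • _) (mul_comm _ _)
  have hlocτ : ∀ i, locus τ ⊓ W' i = Y.basicOpen (b i) := fun i =>
    locus_inf (hW'O i) (isGen_pw (hs' i) (n + 1)) τ (hτ i)
  have hlocσ : ∀ i, locus σ ⊓ q ⁻¹ᵁ W' i = X.basicOpen (a i) := fun i => locus_inf_eq _ _ σ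
  have hmem : ∀ z : X, q z ∈ O → (q z ∈ locus τ ↔ ∀ g : G, (ρ g).hom z ∈ locus σ) := by
    intro z hz
    have hzW : q z ∈ W' (q z) := ⟨hyW _, hz⟩
    have e1 : q z ∈ locus τ ↔ q z ∈ Y.basicOpen (b (q z)) := by
      rw [← hlocτ]
      exact ⟨fun h => ⟨h, hzW⟩, fun h => h.1⟩
    rw [e1, mem_basicOpen_nrm hp (a (q z)) z hzW]
    refine forall_congr' fun g => ?_
    rw [← hlocσ]
    refine ⟨fun h => h.1, fun h => ⟨h, ?_⟩⟩
    change q ((ρ g).hom z) ∈ W' (q z)
    rw [inv_apply hp.inv g z]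
    exact hzW
  have hle : locus τ ≤ U := by
    intro y hy
    obtain ⟨z, rfl⟩ := surjective hp y
    have h1 := (hmem z (locus_le τ hy)).mp hy 1
    have h2 : q ((ρ 1).hom z) ∈ U := hσU h1
    rwa [inv_apply hp.inv 1 z] at h2
  have hxτ : x ∈ locus τ := by
    obtain ⟨z, rfl⟩ := surjective hp x
    exact (hmem z hx).mpr fun g => hEσ (inv_apply hp.inv g z)
  exact ⟨n, τ, hxτ, isAffineOpen_locus_of_le hN τ hU hUO hle⟩

end Groth.Agent.SGA1Quot

end
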