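import Mathlib
import Groth.Prelude.Def_SGA1
import Groth.Agent.SGA1Quot.Orbits

/-!
# Residue fields and decomposition groups for quotients by finite groups
-/

set_option autoImplicit false
set_option linter.style.haveILetI false
set_option maxHeartbeats 400000

universe u

open CategoryTheory AlgebraicGeometry Topology TopologicalSpace Opposite
open scoped Pointwise

namespace Groth.Agent.SGA1Quot

variable {X Y : Scheme.{u}}

theorem mem_primeIdealOf_iff {U : X.Opens} (hU : IsAffineOpen U) (x : X) (hx : x ∈ U)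
    (a : Γ(X, U)) :
    a ∈ (hU.primeIdealOf ⟨x, hx⟩).asIdeal ↔ (X.evaluation U x hx).hom a = 0 := by
  rw [hU.primeIdealOf_eq_map_closedPoint]
  exact (IsLocalRing.residue_eq_zero_iff _).symm

theorem exists_evaluation_div {U : X.Opens} (hU : IsAffineOpen U) (x : X) (hx : x ∈ U)
    (z : X.residueField x) : ∃ a s : Γ(X, U), (X.evaluation U x hx).hom s ≠ 0 ∧
      z = (X.evaluation U x hx).hom a / (X.evaluation U x hx).hom s := by
  letI := TopCat.Presheaf.algebra_section_stalk X.presheaf (⟨x, hx⟩ : U)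
  haveI := hU.isLocalization_stalk ⟨x, hx⟩
  obtain ⟨z, rfl⟩ := X.residue_surjective x z
  obtain ⟨⟨a, s⟩, has⟩ := IsLocalization.surj
    (hU.primeIdealOf ⟨x, hx⟩).asIdeal.primeCompl z
  have hs : (X.evaluation U x hx).hom s.1 ≠ 0 := fun h =>
    s.2 ((mem_primeIdealOf_iff hU x hx s.1).2 h)
  refine ⟨a, s.1, hs, ?_⟩
  rw [eq_div_iff hs]
  have := congrArg (X.residue x).hom has
  rw [map_mul] at this
  exact this

theorem evaluation_appLE (f : X ⟶ Y) (U : Y.Opens) (V : X.Opens) (e : V ≤ f ⁻¹ᵁ U) (x : X)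
    (hx : x ∈ V) (a : Γ(Y, U)) :
    (X.evaluation V x hx).hom ((f.appLE U V e).hom a) =
      (f.residueFieldMap x).hom ((Y.evaluation U (f.base x) (e hx)).hom a) := by
  refine Eq.trans ?_ (Scheme.evaluation_naturality_apply f x (e hx) a).symm
  simp only [Scheme.evaluation, Scheme.Hom.appLE, CommRingCat.comp_apply]
  congr 1
  exact TopCat.Presheaf.germ_res_apply _ _ _ _ _

theorem evaluation_congr {x y : X} (e : x = y) (U : X.Opens) (hx : x ∈ U) :
    (X.evaluation U x hx) ≫ (X.residueFieldCongr e).hom = X.evaluation U y (e ▸ hx) := by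
  subst e; simp

variable {G : Type u} [Group G] {ρ : G →* Aut X} {p : X ⟶ Y}

theorem normal_and_surjective [Finite G] (hp : SGA1.IsQuot ρ p) (x : X) :
    (letI := (p.residueFieldMap x).hom.toAlgebra
     Normal (Y.residueField (p.base x)) (X.residueField x)) ∧
    ∀ τ : X.residueField x ≅ X.residueField x,
      p.residueFieldMap x ≫ τ.hom = p.residueFieldMap x →
      ∃ (g : G) (e : (ρ g).hom.base x = x),
        τ.hom = (X.residueFieldCongr e).inv ≫ (ρ g).hom.residueFieldMap x := by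
  obtain ⟨V, hV, hy, -⟩ := exists_isAffineOpen_mem_and_subset (x := p.base x) (U := ⊤) trivial
  haveI := hp.affine
  have hV' := hV.preimage p
  have hx : x ∈ p ⁻¹ᵁ V := hy
  letI iG := mulSemiringAction hp.inv V
  letI iA : Algebra Γ(Y, V) Γ(X, p ⁻¹ᵁ V) := (p.app V).hom.toAlgebra
  haveI := isInvariant (good_of_isQuot hp V)
  haveI := smulCommClass (X := X) (Y := Y) hp.inv V
  letI : Algebra (Y.residueField (p.base x)) (X.residueField x) :=
    (p.residueFieldMap x).hom.toAlgebra
  let eA := (Y.evaluation V (p.base x) hy).hom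
  let eB := (X.evaluation (p ⁻¹ᵁ V) x hx).hom
  have hcomm : ∀ a, eB ((p.app V).hom a) = (p.residueFieldMap x).hom (eA a) := fun a =>
    (Scheme.evaluation_naturality_apply p x hy a).symm
  let Q : Ideal Γ(X, p ⁻¹ᵁ V) := RingHom.ker eB
  let P : Ideal Γ(Y, V) := RingHom.ker eA
  haveI : Q.IsPrime := RingHom.ker_isPrime _
  haveI : P.IsPrime := RingHom.ker_isPrime _
  haveI hQP : Q.LiesOver P := ⟨by
    ext a
    change eA a = 0 ↔ eB ((p.app V).hom a) = 0
    rw [hcomm]; exact (map_eq_zero_iff _ (RingHom.injective _)).symm⟩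
  letI iK : Algebra (Γ(Y, V) ⧸ P) (Y.residueField (p.base x)) :=
    (RingHom.kerLift eA).toAlgebra
  letI iL : Algebra (Γ(X, p ⁻¹ᵁ V) ⧸ Q) (X.residueField x) := (RingHom.kerLift eB).toAlgebra
  haveI hK : IsFractionRing (Γ(Y, V) ⧸ P) (Y.residueField (p.base x)) := by
    haveI : FaithfulSMul (Γ(Y, V) ⧸ P) (Y.residueField (p.base x)) :=
      (faithfulSMul_iff_algebraMap_injective _ _).2 (RingHom.kerLift_injective eA)
    refine IsFractionRing.of_field _ _ fun z => ?_
    obtain ⟨a, s, -, rfl⟩ := exists_evaluation_div hV _ hy z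
    exact ⟨Ideal.Quotient.mk _ a, Ideal.Quotient.mk _ s, rfl⟩
  haveI hL : IsFractionRing (Γ(X, p ⁻¹ᵁ V) ⧸ Q) (X.residueField x) := by
    haveI : FaithfulSMul (Γ(X, p ⁻¹ᵁ V) ⧸ Q) (X.residueField x) :=
      (faithfulSMul_iff_algebraMap_injective _ _).2 (RingHom.kerLift_injective eB)
    refine IsFractionRing.of_field _ _ fun z => ?_
    obtain ⟨a, s, -, rfl⟩ := exists_evaluation_div hV' _ hx z
    exact ⟨Ideal.Quotient.mk _ a, Ideal.Quotient.mk _ s, rfl⟩
  letI iPL : Algebra (Γ(Y, V) ⧸ P) (X.residueField x) :=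
    ((p.residueFieldMap x).hom.comp (RingHom.kerLift eA)).toAlgebra
  haveI : IsScalarTower (Γ(Y, V) ⧸ P) (Y.residueField (p.base x)) (X.residueField x) :=
    IsScalarTower.of_algebraMap_eq fun _ => rfl
  haveI : IsScalarTower (Γ(Y, V) ⧸ P) (Γ(X, p ⁻¹ᵁ V) ⧸ Q) (X.residueField x) :=
    IsScalarTower.of_algebraMap_eq fun a => by
      obtain ⟨a, rfl⟩ := Ideal.Quotient.mk_surjective a
      exact (hcomm a).symm
  refine ⟨Ideal.IsFractionRing.normal G P Q _ _, fun τ hτ => ?_⟩
  let f : Gal((X.residueField x)/(Y.residueField (p.base x))) :=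
    AlgEquiv.ofRingEquiv (f := τ.commRingCatIsoToRingEquiv) fun a =>
      ConcreteCategory.congr_hom hτ a
  obtain ⟨σ, hσ⟩ := IsFractionRing.stabilizerHom_surjective G P Q
    (Y.residueField (p.base x)) (X.residueField x) f
  let g := σ.val⁻¹
  have hσa : ∀ a, τ.hom.hom (eB a) = eB (act ρ p hp.inv g V a) := fun a => by
    have h1 := IsFractionRing.stabilizerHom_apply_apply_mk G P Q (Y.residueField (p.base x))
      (X.residueField x) σ a
    rw [hσ] at h1
    exact h1
  have hgx : (ρ g).hom.base x = x := by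
    have hmem : (ρ g).hom.base x ∈ p ⁻¹ᵁ V := by
      change p.base ((ρ g).hom.base x) ∈ V; rw [inv_apply hp.inv]; exact hy
    have h3 : hV'.primeIdealOf ⟨(ρ g).hom.base x, hmem⟩ = hV'.primeIdealOf ⟨x, hx⟩ := by
      ext a
      change a ∈ (hV'.primeIdealOf ⟨(ρ g).hom.base x, hmem⟩).asIdeal ↔
        a ∈ (hV'.primeIdealOf ⟨x, hx⟩).asIdeal
      rw [mem_primeIdealOf_iff, mem_primeIdealOf_iff]
      have h1 : eB (act ρ p hp.inv g V a) =
          ((ρ g).hom.residueFieldMap x).hom ((X.evaluation _ _ hmem).hom a) :=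
        evaluation_appLE (ρ g).hom (p ⁻¹ᵁ V) (p ⁻¹ᵁ V)
          (SGA1.preimage_le_of_inv ρ p hp.inv g V) x hx a
      constructor
      · intro h0
        have h2 : eB (act ρ p hp.inv g V a) = 0 := by rw [h1, h0, map_zero]
        rw [← hσa] at h2
        exact (map_eq_zero _).1 h2
      · intro h0
        have h2 : τ.hom.hom (eB a) = 0 := by
          change τ.hom.hom ((X.evaluation _ _ hx).hom a) = 0
          rw [h0, map_zero]
        rw [hσa, h1] at h2
        exact (map_eq_zero _).1 h2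
    have := congrArg (fun q => hV'.fromSpec.base q) h3
    simpa only [IsAffineOpen.fromSpec_primeIdealOf] using this
  refine ⟨g, hgx, ?_⟩
  have key : ∀ a, τ.hom.hom (eB a) =
      ((X.residueFieldCongr hgx).inv ≫ (ρ g).hom.residueFieldMap x).hom (eB a) := by
    intro a
    rw [hσa, CommRingCat.comp_apply, Scheme.residueFieldCongr_inv]
    have h4 := ConcreteCategory.congr_hom (evaluation_congr hgx.symm (p ⁻¹ᵁ V) hx) a
    simp only [CommRingCat.comp_apply] at h4
    rw [h4]
    exact evaluation_appLE (ρ g).hom (p ⁻¹ᵁ V) (p ⁻¹ᵁ V)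
      (SGA1.preimage_le_of_inv ρ p hp.inv g V) x hx a
  ext z
  obtain ⟨a, s, -, rfl⟩ := exists_evaluation_div hV' x hx z
  rw [map_div₀, map_div₀, key a, key s]

end Groth.Agent.SGA1Quot
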