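import Mathlib
import Groth.Prelude.Def_SGA1
import Groth.Agent.SGA1Quot.Sigma

/-!
# Finite groups transitive on geometric fibres of a finite surjective morphism
-/

set_option autoImplicit false
set_option linter.style.haveILetI false

universe u w

open CategoryTheory CategoryTheory.Limits AlgebraicGeometry Topology Opposite

namespace Groth.Agent.SGA1Quot

variable {X S : Scheme.{u}} {G : Type u} [Group G] {q : X ⟶ S} {ρ : G →* Aut X}

theorem exists_base_eq_of_geomTransitive
    (htrans : ∀ (Ω : Type u) [Field Ω] [IsAlgClosed Ω] (τ₁ τ₂ : Spec (CommRingCat.of Ω) ⟶ X),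
      τ₁ ≫ q = τ₂ ≫ q → ∃ g : G, τ₁ ≫ (ρ g).hom = τ₂)
    (x y : X) (h : q.base x = q.base y) : ∃ g : G, (ρ g).hom.base x = y := by
  obtain ⟨z, h1, h2⟩ := Scheme.Pullback.exists_preimage_pullback x y h
  let Ω := AlgebraicClosure ((pullback q q).residueField z)
  let ζ : Spec (CommRingCat.of Ω) ⟶ pullback q q :=
    Spec.map (CommRingCat.ofHom (algebraMap ((pullback q q).residueField z) Ω)) ≫
      (pullback q q).fromSpecResidueField z
  obtain ⟨g, hg⟩ := htrans Ω (ζ ≫ pullback.fst q q) (ζ ≫ pullback.snd q q)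
    (by simp only [Category.assoc, pullback.condition])
  refine ⟨g, ?_⟩
  have hζ : ζ.base (IsLocalRing.closedPoint Ω) = z :=
    Scheme.fromSpecResidueField_apply (X := pullback q q) z _
  have := congrArg (fun k : Spec (CommRingCat.of Ω) ⟶ X => k.base (IsLocalRing.closedPoint Ω)) hg
  simp only [Scheme.Hom.comp_apply, hζ, h1, h2] at this
  exact this

theorem irreducibleComponents_transitive [IsNoetherian S] [IrreducibleSpace ↥S] [IsFinite q]
    [Surjective q] [Finite G] (hρ : ∀ g : G, (ρ g).hom ≫ q = q)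
    (htrans : ∀ (Ω : Type u) [Field Ω] [IsAlgClosed Ω] (τ₁ τ₂ : Spec (CommRingCat.of Ω) ⟶ X),
      τ₁ ≫ q = τ₂ ≫ q → ∃ g : G, τ₁ ≫ (ρ g).hom = τ₂) :
    (∀ T ∈ irreducibleComponents ↥X, Set.image (fun x => q x) T = Set.univ) ∧
      ∀ T₁ ∈ irreducibleComponents ↥X, ∀ T₂ ∈ irreducibleComponents ↥X,
        ∃ g : G, Set.image (fun x => (ρ g).hom x) T₁ = T₂ := by
  classical
  cases nonempty_fintype G
  haveI : CompactSpace X := QuasiCompact.compactSpace_of_compactSpace q
  haveI : IsLocallyNoetherian X := LocallyOfFiniteType.isLocallyNoetherian q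
  haveI : IsNoetherian X := {}
  have hfin : (irreducibleComponents ↥X).Finite :=
    TopologicalSpace.NoetherianSpace.finite_irreducibleComponents
  obtain ⟨T₀, hT₀, hT₀q⟩ : ∃ T ∈ irreducibleComponents ↥X, q.base '' T = Set.univ := by
    obtain ⟨z, hz, hsub⟩ := isIrreducible_iff_sUnion_isClosed.1
      (IrreducibleSpace.isIrreducible_univ S) (hfin.toFinset.image fun T => q.base '' T)
      (by
        intro z hz
        obtain ⟨T, hT, rfl⟩ := Finset.mem_image.1 hz
        exact q.isClosedMap _ (isClosed_of_mem_irreducibleComponents T (hfin.mem_toFinset.1 hT)))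
      (by
        intro s _
        obtain ⟨x, rfl⟩ := q.surjective s
        refine Set.mem_sUnion.2 ⟨q.base '' irreducibleComponent x, ?_,
          ⟨x, mem_irreducibleComponent, rfl⟩⟩
        exact Finset.mem_coe.2 (Finset.mem_image.2 ⟨_, hfin.mem_toFinset.2
          (irreducibleComponent_mem_irreducibleComponents x), rfl⟩))
    obtain ⟨T, hT, rfl⟩ := Finset.mem_image.1 hz
    exact ⟨T, hfin.mem_toFinset.1 hT, Set.univ_subset_iff.1 hsub⟩
  have himg : ∀ g : G, IsIrreducible ((ρ g).hom.base '' T₀) ∧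
      IsClosed ((ρ g).hom.base '' T₀) := fun g => by
    refine ⟨hT₀.1.image _ (ρ g).hom.base.hom.continuous.continuousOn, ?_⟩
    haveI : IsIso (ρ g).hom := Iso.isIso_hom (ρ g)
    exact (ρ g).hom.homeomorph.isClosedMap _ (isClosed_of_mem_irreducibleComponents T₀ hT₀)
  have hcov : ∀ x : X, ∃ g : G, x ∈ (ρ g).hom.base '' T₀ := by
    intro x
    obtain ⟨x₀, hx₀, he⟩ : q.base x ∈ q.base '' T₀ := by rw [hT₀q]; trivial
    obtain ⟨g, hg⟩ := exists_base_eq_of_geomTransitive htrans x₀ x he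
    exact ⟨g, x₀, hx₀, hg⟩
  have hcomp : ∀ T ∈ irreducibleComponents ↥X, ∃ g : G, (ρ g).hom.base '' T₀ = T := by
    intro T hT
    obtain ⟨z, hz, hsub⟩ := isIrreducible_iff_sUnion_isClosed.1 hT.1
      (Finset.univ.image fun g : G => (ρ g).hom.base '' T₀)
      (by intro z hz; obtain ⟨g, -, rfl⟩ := Finset.mem_image.1 hz; exact (himg g).2)
      (fun x _ => by
        obtain ⟨g, hg⟩ := hcov x
        exact Set.mem_sUnion.2 ⟨_,
          Finset.mem_coe.2 (Finset.mem_image.2 ⟨g, Finset.mem_univ g, rfl⟩), hg⟩)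
    obtain ⟨g, -, rfl⟩ := Finset.mem_image.1 hz
    exact ⟨g, le_antisymm (hT.2 (himg g).1 hsub) hsub⟩
  refine ⟨fun T hT => ?_, fun T₁ h₁ T₂ h₂ => ?_⟩
  · obtain ⟨g, rfl⟩ := hcomp T hT
    rw [Set.image_image]
    refine Eq.trans (Set.image_congr fun x _ => ?_) hT₀q
    exact congrArg (fun k : X ⟶ S => k.base x) (hρ g)
  · obtain ⟨g₁, rfl⟩ := hcomp T₁ h₁
    obtain ⟨g₂, rfl⟩ := hcomp T₂ h₂
    refine ⟨g₂ * g₁⁻¹, ?_⟩
    rw [Set.image_image]
    refine Set.image_congr fun x _ => ?_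
    have : (ρ g₁).hom ≫ (ρ (g₂ * g₁⁻¹)).hom = (ρ g₂).hom := by
      change (ρ (g₂ * g₁⁻¹) * ρ g₁).hom = _
      rw [← map_mul, inv_mul_cancel_right]
    exact congrArg (fun k : X ⟶ X => k.base x) this

theorem isFinite_surjective_translates [Finite G] [IsFinite q]
    (htrans : ∀ (Ω : Type u) [Field Ω] [IsAlgClosed Ω] (τ₁ τ₂ : Spec (CommRingCat.of Ω) ⟶ X),
      τ₁ ≫ q = τ₂ ≫ q → ∃ g : G, τ₁ ≫ (ρ g).hom = τ₂)
    {Y : Scheme.{u}} (r : Y ⟶ X) (υ : (∐ fun _ : G => Y) ⟶ pullback (r ≫ q) q)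
    (h1 : ∀ σ : G, Sigma.ι (fun _ : G => Y) σ ≫ υ ≫ pullback.fst (r ≫ q) q = 𝟙 Y)
    (h2 : ∀ σ : G, Sigma.ι (fun _ : G => Y) σ ≫ υ ≫ pullback.snd (r ≫ q) q = r ≫ (ρ σ).hom) :
    IsFinite υ ∧ Surjective υ := by
  constructor
  · have : υ ≫ pullback.fst (r ≫ q) q = Sigma.desc (fun _ : G => 𝟙 Y) :=
      Sigma.hom_ext _ _ fun σ => by rw [h1, Sigma.ι_desc]
    haveI : IsFinite (υ ≫ pullback.fst (r ≫ q) q) := by
      rw [this]; exact isFinite_sigmaDesc G _ _ fun _ => inferInstance
    exact IsFinite.of_comp υ (pullback.fst (r ≫ q) q)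
  · refine ⟨fun z => ?_⟩
    let Ω := AlgebraicClosure ((pullback (r ≫ q) q).residueField z)
    let ζ : Spec (CommRingCat.of Ω) ⟶ pullback (r ≫ q) q :=
      Spec.map (CommRingCat.ofHom (algebraMap ((pullback (r ≫ q) q).residueField z) Ω)) ≫
        (pullback (r ≫ q) q).fromSpecResidueField z
    obtain ⟨g, hg⟩ := htrans Ω (ζ ≫ pullback.fst _ _ ≫ r) (ζ ≫ pullback.snd _ _) (by
      simp only [Category.assoc, pullback.condition])
    have key : ζ = (ζ ≫ pullback.fst _ _) ≫ Sigma.ι (fun _ : G => Y) g ≫ υ := by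
      apply pullback.hom_ext
      · simp only [Category.assoc, h1, Category.comp_id]
      · simp only [Category.assoc, h2]
        rw [← hg]
        simp only [Category.assoc]
    refine ⟨(Sigma.ι (fun _ : G => Y) g).base ((ζ ≫ pullback.fst _ _).base
      (IsLocalRing.closedPoint Ω)), ?_⟩
    have := congrArg (fun k : Spec (CommRingCat.of Ω) ⟶ pullback (r ≫ q) q =>
      k.base (IsLocalRing.closedPoint Ω)) key
    have hζ : ζ.base (IsLocalRing.closedPoint Ω) = z :=
      Scheme.fromSpecResidueField_apply (X := pullback (r ≫ q) q) z _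
    simp only [Scheme.Hom.comp_apply, hζ] at this ⊢
    exact this.symm

theorem sections_eq_invariants [Finite G] [IsFinite q] [Surjective q]
    (hρ : ∀ g : G, (ρ g).hom ≫ q = q)
    (htrans : ∀ (Ω : Type u) [Field Ω] [IsAlgClosed Ω] (τ₁ τ₂ : Spec (CommRingCat.of Ω) ⟶ X),
      τ₁ ≫ q = τ₂ ≫ q → ∃ g : G, τ₁ ≫ (ρ g).hom = τ₂)
    (F : Scheme.{u}ᵒᵖ ⥤ Type w)
    (hF : ∀ ⦃T : Scheme.{u}⦄ (E : PreZeroHypercover.{u} T), Finite E.I₀ →
      (∀ i, LocallyOfFiniteType (E.f i)) → (∀ i, QuasiCompact (E.f i)) →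
      (∀ i, LocallyQuasiFinite (E.f i)) → SGA1.UnivSubmersive (Sigma.desc E.f) →
      Presieve.IsSheafFor F E.presieve₀) :
    Function.Injective (F.map q.op) ∧
      Set.range (F.map q.op) = {f : F.obj (Opposite.op X) | ∀ g : G, F.map (ρ g).hom.op f = f} := by
  have hsheaf : ∀ {T : Scheme.{u}} {ι : Type u} [Finite ι] (W : ι → Scheme.{u})
      (f : ∀ i, W i ⟶ T), (∀ i, IsFinite (f i)) → Surjective (Sigma.desc f) →
      Presieve.IsSheafFor F (Presieve.ofArrows W f) := by
    intro T ι _ W f hf hs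
    haveI := hf
    haveI := isFinite_sigmaDesc ι W f hf
    exact hF (PreZeroHypercover.mk ι W f) ‹_› (fun i => inferInstanceAs (LocallyOfFiniteType (f i)))
      (fun i => inferInstanceAs (QuasiCompact (f i)))
      (fun i => inferInstanceAs (LocallyQuasiFinite (f i)))
      (univSubmersive_of_isFinite_of_surjective (Sigma.desc f))
  have hq : Presieve.IsSheafFor F (Presieve.ofArrows (fun _ : PUnit.{u + 1} => X) fun _ => q) :=
    hsheaf _ _ (fun _ => ‹_›) ⟨fun s => by
      obtain ⟨x, rfl⟩ := q.surjective s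
      refine ⟨(Sigma.ι (fun _ : PUnit.{u + 1} => X) PUnit.unit).base x, ?_⟩
      exact congrArg (fun k : X ⟶ S => k.base x)
        (Sigma.ι_desc (f := fun _ : PUnit.{u + 1} => X) (fun _ => q) PUnit.unit)⟩
  rw [Presieve.isSheafFor_arrows_iff] at hq
  constructor
  · intro a b hab
    exact (hq (fun _ => F.map q.op a) (fun i j Z gi gj h => by
      rw [← Functor.map_comp_apply, ← Functor.map_comp_apply, ← op_comp, ← op_comp]
      simp only [h])).unique (fun _ => rfl) (fun _ => hab.symm)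
  · ext f
    refine ⟨?_, fun hf => ?_⟩
    · rintro ⟨a, rfl⟩ g
      rw [← Functor.map_comp_apply, ← op_comp, hρ]
    · let υ : (∐ fun _ : G => X) ⟶ pullback (𝟙 X ≫ q) q :=
        Sigma.desc fun g => pullback.lift (𝟙 X) (ρ g).hom (by simp [hρ])
      obtain ⟨hυ₁, hυ₂⟩ := isFinite_surjective_translates htrans (𝟙 X) υ
        (fun σ => by rw [Sigma.ι_desc_assoc]; exact pullback.lift_fst _ _ _)
        (fun σ => by rw [Sigma.ι_desc_assoc]; exact (pullback.lift_snd _ _ _).trans (Category.id_comp _).symm)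
      have hU : Presieve.IsSheafFor F (Presieve.ofArrows (fun _ : G => X)
          fun g => Sigma.ι (fun _ : G => X) g ≫ υ) := by
        refine hsheaf _ _ (fun g => ?_) ?_
        · have h0 : (Sigma.ι (fun _ : G => X) g ≫ υ) ≫ pullback.fst (𝟙 X ≫ q) q = 𝟙 X := by
            rw [Sigma.ι_desc]; exact pullback.lift_fst _ _ _
          haveI : IsFinite ((Sigma.ι (fun _ : G => X) g ≫ υ) ≫ pullback.fst (𝟙 X ≫ q) q) := by
            rw [h0]; infer_instance
          exact IsFinite.of_comp _ (pullback.fst (𝟙 X ≫ q) q)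
        have : Sigma.desc (fun g => Sigma.ι (fun _ : G => X) g ≫ υ) = υ :=
          Sigma.hom_ext _ _ fun g => by rw [Sigma.ι_desc]
        rw [this]; exact hυ₂
      rw [Presieve.isSheafFor_arrows_iff] at hU
      have hpr : F.map (pullback.fst (𝟙 X ≫ q) q).op f =
          F.map (pullback.snd (𝟙 X ≫ q) q).op f := by
        refine (hU (fun g => F.map (Sigma.ι (fun _ : G => X) g ≫ υ).op
          (F.map (pullback.fst (𝟙 X ≫ q) q).op f)) (fun i j Z gi gj h => ?_)).unique
          (fun _ => rfl) (fun g => ?_)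
        · rw [← Functor.map_comp_apply F _ gi.op, ← Functor.map_comp_apply F _ gj.op,
            ← op_comp, ← op_comp]
          simp only [h]
        · rw [← Functor.map_comp_apply, ← Functor.map_comp_apply, ← op_comp, ← op_comp]
          rw [show (Sigma.ι (fun _ : G => X) g ≫ υ) ≫ pullback.snd (𝟙 X ≫ q) q = (ρ g).hom from by
              rw [Sigma.ι_desc]; exact pullback.lift_snd _ _ _,
            show (Sigma.ι (fun _ : G => X) g ≫ υ) ≫ pullback.fst (𝟙 X ≫ q) q = 𝟙 X from by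
              rw [Sigma.ι_desc]; exact pullback.lift_fst _ _ _, hf g, op_id, CategoryTheory.Functor.map_id]
          rfl
      obtain ⟨a, ha, -⟩ := hq (fun _ => f) (fun i j Z gi gj h => by
        have e := congrArg (F.map (pullback.lift gi gj
          (by simpa using h) : Z ⟶ pullback (𝟙 X ≫ q) q).op) hpr
        rw [← Functor.map_comp_apply, ← Functor.map_comp_apply, ← op_comp, ← op_comp,
          pullback.lift_fst, pullback.lift_snd] at e
        exact e)
      exact ⟨a, ha PUnit.unit⟩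

end Groth.Agent.SGA1Quot
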