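import Mathlib

/-!
# Transitivity on geometric points from normality and decomposition groups
-/

set_option autoImplicit false
set_option linter.style.haveILetI false

universe u

open CategoryTheory AlgebraicGeometry Topology TopologicalSpace Opposite

namespace Groth.Agent.SGA1Quot

variable {X S : Scheme.{u}} {G : Type u} [Group G]

theorem exists_point_map {Ω : Type u} [Field Ω] (τ : Spec (CommRingCat.of Ω) ⟶ X) :
    ∃ (x : X) (a : X.residueField x ⟶ CommRingCat.of Ω),
      τ = Spec.map a ≫ X.fromSpecResidueField x :=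
  ⟨_, _, ((Scheme.SpecToEquivOfField Ω X).left_inv τ).symm⟩

theorem unique_point_map {Ω : Type u} [Field Ω] (x : X)
    (a b : X.residueField x ⟶ CommRingCat.of Ω)
    (h : Spec.map a ≫ X.fromSpecResidueField x = Spec.map b ≫ X.fromSpecResidueField x) :
    a = b := by
  have := (Scheme.SpecToEquivOfField Ω X).symm.injective (a₁ := ⟨x, a⟩) (a₂ := ⟨x, b⟩) h
  exact eq_of_heq (Sigma.mk.inj_iff.1 this).2

theorem exists_residueField_iso (q : X ⟶ S) (x : X)
    (hn : @Normal (S.residueField (q.base x)) (X.residueField x) _ _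
      (q.residueFieldMap x).hom.toAlgebra)
    {Ω : Type u} [Field Ω] (a b : X.residueField x ⟶ CommRingCat.of Ω)
    (hab : q.residueFieldMap x ≫ a = q.residueFieldMap x ≫ b) :
    ∃ σ : X.residueField x ≅ X.residueField x,
      q.residueFieldMap x ≫ σ.hom = q.residueFieldMap x ∧ σ.hom ≫ a = b := by
  letI : Algebra (S.residueField (q.base x)) (X.residueField x) :=
    (q.residueFieldMap x).hom.toAlgebra
  letI : Algebra (X.residueField x) Ω := a.hom.toAlgebra
  letI : Algebra (S.residueField (q.base x)) Ω :=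
    (q.residueFieldMap x ≫ a).hom.toAlgebra
  haveI : IsScalarTower (S.residueField (q.base x)) (X.residueField x) Ω :=
    IsScalarTower.of_algebraMap_eq fun _ => rfl
  let φ : X.residueField x →ₐ[S.residueField (q.base x)] Ω :=
    { b.hom with commutes' := fun r => (ConcreteCategory.congr_hom hab r).symm }
  haveI := hn
  let σ := φ.restrictNormal' (X.residueField x)
  refine ⟨σ.toRingEquiv.toCommRingCatIso, ?_, ?_⟩
  · ext r
    exact σ.commutes r
  · ext z
    exact φ.restrictNormal_commutes (X.residueField x) z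

theorem geomTransitive (q : X ⟶ S) (ρ : G →* Aut X) (hρ : ∀ g : G, (ρ g).hom ≫ q = q)
    (h1 : ∀ x y : X, q.base x = q.base y → ∃ g : G, (ρ g).hom.base x = y)
    (h2 : ∀ x : X, @Normal (S.residueField (q.base x)) (X.residueField x) _ _
      (q.residueFieldMap x).hom.toAlgebra)
    (h3 : ∀ (x : X) (σ : X.residueField x ≅ X.residueField x),
      q.residueFieldMap x ≫ σ.hom = q.residueFieldMap x → ∃ g : G,
        X.fromSpecResidueField x ≫ (ρ g).hom = Spec.map σ.hom ≫ X.fromSpecResidueField x)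
    (Ω : Type u) [Field Ω] (τ₁ τ₂ : Spec (CommRingCat.of Ω) ⟶ X) (hτ : τ₁ ≫ q = τ₂ ≫ q) :
    ∃ g : G, τ₁ ≫ (ρ g).hom = τ₂ := by
  have hsame : ∀ (x : X) (a b : X.residueField x ⟶ CommRingCat.of Ω),
      (Spec.map a ≫ X.fromSpecResidueField x) ≫ q = (Spec.map b ≫ X.fromSpecResidueField x) ≫ q →
      ∃ g : G, (Spec.map a ≫ X.fromSpecResidueField x) ≫ (ρ g).hom =
        Spec.map b ≫ X.fromSpecResidueField x := by
    intro x a b hab
    rw [Category.assoc, Category.assoc,
      ← Scheme.Hom.SpecMap_residueFieldMap_fromSpecResidueField, ← Spec.map_comp_assoc,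
      ← Spec.map_comp_assoc] at hab
    obtain ⟨σ, hσ, hσab⟩ := exists_residueField_iso q x (h2 x) a b (unique_point_map _ _ _ hab)
    obtain ⟨g, hg⟩ := h3 x σ hσ
    exact ⟨g, by rw [Category.assoc, hg, ← Spec.map_comp_assoc, hσab]⟩
  obtain ⟨x₁, a₁, e₁⟩ := exists_point_map τ₁
  obtain ⟨x₂, a₂, e₂⟩ := exists_point_map τ₂
  have hq : q.base x₁ = q.base x₂ := by
    have := congrArg (fun k : Spec (CommRingCat.of Ω) ⟶ S => k.base
      (IsLocalRing.closedPoint Ω)) hτ
    simpa [e₁, e₂] using this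
  obtain ⟨g, hg⟩ := h1 x₁ x₂ hq
  obtain ⟨y, b, e⟩ := exists_point_map (τ₁ ≫ (ρ g).hom)
  have hy : y = x₂ := by
    have := congrArg (fun k : Spec (CommRingCat.of Ω) ⟶ X => k.base
      (IsLocalRing.closedPoint Ω)) e
    simp [e₁] at this
    rw [← this]; exact hg
  subst hy
  obtain ⟨g', hg'⟩ := hsame y b a₂ (by
    rw [← e, ← e₂, Category.assoc, hρ, hτ])
  refine ⟨g' * g, ?_⟩
  rw [e₂, ← hg', ← e, map_mul, Category.assoc]
  rfl

end Groth.Agent.SGA1Quot
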