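import Mathlib

/-!
# Galois extensions of commutative rings from freeness of the action
-/

set_option autoImplicit false
set_option linter.style.haveILetI false

universe u

open TensorProduct

namespace Groth.Agent.SGA1Quot

variable {G A B : Type u} [Group G] [Finite G] [CommRing A] [CommRing B] [Algebra B A]
  [MulSemiringAction G A] [SMulCommClass G B A]

/-- `a ⊗ b ↦ a * h • b`. -/
noncomputable def twist (h : G) : A ⊗[B] A →ₐ[B] A :=
  Algebra.TensorProduct.lift (AlgHom.id B A) (MulSemiringAction.toAlgHom B A h)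
    fun _ _ => Commute.all _ _

@[simp] theorem twist_tmul (h : G) (a b : A) : twist h (a ⊗ₜ[B] b) = a * h • b := by
  simp [twist]

/-- If no element other than `1` fixes a prime and acts trivially on its residue field, then
there is an element of `A ⊗ A` whose twists are `1` at `1` and `0` elsewhere. -/
theorem exists_separating
    (hfree : ∀ g : G, g ≠ 1 → ∀ P : Ideal A, P.IsPrime → ∃ a : A, g • a - a ∉ P) :
    ∃ e : A ⊗[B] A, twist (1 : G) e = 1 ∧ ∀ h : G, h ≠ 1 → twist h e = 0 := by
  classical
  cases nonempty_fintype G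
  have step : ∀ g : G, g ≠ 1 → ∃ e : A ⊗[B] A, twist (1 : G) e = 1 ∧ twist g e = 0 := by
    intro g hg
    let J : Ideal A :=
      { carrier := {a | ∃ z : A ⊗[B] A, twist (1 : G) z - twist g z = a}
        add_mem' := fun {a b} ⟨z, hz⟩ ⟨w, hw⟩ => ⟨z + w, by
          rw [← hz, ← hw, map_add, map_add]; ring⟩
        zero_mem' := ⟨0, by simp⟩
        smul_mem' := fun c a ⟨z, hz⟩ => ⟨(c ⊗ₜ 1) * z, by
          rw [← hz, map_mul, map_mul, twist_tmul, twist_tmul]
          simp [mul_sub]⟩ }
    have hJ : J = ⊤ := by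
      by_contra hne
      obtain ⟨P, hP, hle⟩ := Ideal.exists_le_maximal J hne
      obtain ⟨a, ha⟩ := hfree g hg P hP.isPrime
      apply ha
      have : a - g • a ∈ J := ⟨1 ⊗ₜ a, by simp⟩
      have h2 := neg_mem (hle this)
      rwa [neg_sub] at h2
    obtain ⟨u, hu⟩ : (1 : A) ∈ J := hJ ▸ Submodule.mem_top
    refine ⟨u - (twist g u) ⊗ₜ 1, ?_, ?_⟩
    · rw [map_sub, twist_tmul, smul_one, mul_one]; exact hu
    · rw [map_sub, twist_tmul, smul_one, mul_one, sub_self]
  choose e he1 he2 using step
  refine ⟨∏ g : {g : G // g ≠ 1}, e g.1 g.2, ?_, fun h hh => ?_⟩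
  · rw [map_prod]
    exact Finset.prod_eq_one fun g _ => he1 _ _
  · rw [map_prod]
    exact Finset.prod_eq_zero (Finset.mem_univ (⟨h, hh⟩ : {g : G // g ≠ 1})) (he2 h hh)

variable [Algebra.IsInvariant B A G]

/-- Freely acting finite groups give finite projective Galois extensions of rings. -/
theorem galois_of_free (hinj : Function.Injective (algebraMap B A))
    (hfree : ∀ g : G, g ≠ 1 → ∀ P : Ideal A, P.IsPrime → ∃ a : A, g • a - a ∉ P) :
    Module.Finite B A ∧ Module.Projective B A ∧
      Function.Bijective (fun z : A ⊗[B] A => fun h : G => twist h z) := by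
  classical
  cases nonempty_fintype G
  obtain ⟨e, he1, he0⟩ := exists_separating (B := B) hfree
  obtain ⟨S, hS⟩ := TensorProduct.exists_finset e
  have hδ : ∀ h : G, ∑ s ∈ S, s.1 * h • s.2 = if h = 1 then 1 else 0 := by
    intro h
    have : twist h e = ∑ s ∈ S, s.1 * h • s.2 := by
      rw [hS, map_sum]; simp
    rw [← this]
    split_ifs with hh
    · rw [hh, he1]
    · exact he0 h hh
  have hδ' : ∀ g : G, ∑ s ∈ S, g • s.1 * s.2 = if g = 1 then 1 else 0 := by
    intro g
    have h1 := congrArg (g • ·) (hδ g⁻¹)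
    simp only [Finset.smul_sum, smul_mul', smul_inv_smul, inv_eq_one] at h1
    rw [h1]
    split_ifs <;> simp
  let t : A →ₗ[B] A := ∑ g : G, (MulSemiringAction.toAlgHom B A g).toLinearMap
  have ht : ∀ a, t a = ∑ g : G, g • a := fun a => by simp [t]
  have htmem : ∀ a, t a ∈ LinearMap.range (Algebra.linearMap B A) := fun a => by
    obtain ⟨b, hb⟩ := Algebra.IsInvariant.isInvariant (A := B) (G := G) (t a) fun k => by
      simp only [ht, Finset.smul_sum, smul_smul]
      exact Fintype.sum_equiv (Equiv.mulLeft k) _ _ fun _ => rfl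
    exact ⟨b, hb⟩
  let T : A →ₗ[B] B :=
    (LinearEquiv.ofInjective (Algebra.linearMap B A) hinj).symm.toLinearMap ∘ₗ
      t.codRestrict _ htmem
  have hT : ∀ a, algebraMap B A (T a) = t a := fun a =>
    congrArg Subtype.val ((LinearEquiv.ofInjective (Algebra.linearMap B A) hinj).apply_symm_apply
      ⟨t a, htmem a⟩)
  have hexp : ∀ b : A, ∑ s ∈ S, T (b * s.1) • s.2 = b := fun b => by
    simp only [Algebra.smul_def, hT, ht, smul_mul', Finset.sum_mul]
    rw [Finset.sum_comm]
    simp only [mul_assoc, ← Finset.mul_sum]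
    simp [hδ']
  let back : (S → B) →ₗ[B] A := ∑ s : S, (LinearMap.proj s).smulRight s.1.2
  let fwd : A →ₗ[B] (S → B) := LinearMap.pi fun s => T ∘ₗ LinearMap.mulRight B s.1.1
  have hsplit : back.comp fwd = LinearMap.id := by
    ext b
    simp only [back, fwd, LinearMap.comp_apply, LinearMap.sum_apply, LinearMap.smulRight_apply,
      LinearMap.proj_apply, LinearMap.pi_apply, LinearMap.mulRight_apply, LinearMap.id_apply]
    exact (Finset.sum_coe_sort S fun s => T (b * s.1) • s.2).trans (hexp b)
  refine ⟨Module.Finite.of_surjective back fun b => ⟨fwd b, LinearMap.congr_fun hsplit b⟩,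
    Module.Projective.of_split fwd back hsplit, ?_⟩
  let ψ : (G → A) → A ⊗[B] A := fun w => ∑ s ∈ S, (∑ g : G, w g * g • s.1) ⊗ₜ s.2
  have hψadd : ∀ w w', ψ (w + w') = ψ w + ψ w' := fun w w' => by
    simp only [ψ, Pi.add_apply, add_mul, Finset.sum_add_distrib, add_tmul]
  refine Function.bijective_iff_has_inverse.2 ⟨ψ, fun z => ?_, fun w => ?_⟩
  · induction z using TensorProduct.induction_on with
    | zero => simp [ψ]
    | tmul a b =>
      simp only [ψ, twist_tmul]
      conv_rhs => rw [← hexp b, tmul_sum]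
      refine Finset.sum_congr rfl fun s _ => ?_
      rw [← smul_tmul]
      congr 1
      rw [Algebra.smul_def, hT, ht, Finset.sum_mul]
      refine Finset.sum_congr rfl fun g _ => ?_
      rw [smul_mul']; ring
    | add x y hx hy =>
      simp only [map_add] at hx hy ⊢
      rw [show (fun h : G => twist h x + twist h y) =
        (fun h : G => twist h x) + fun h : G => twist h y from rfl, hψadd, hx, hy]
  · funext h
    simp only [ψ, map_sum, twist_tmul, Finset.sum_mul]
    rw [Finset.sum_comm]
    have : ∀ g : G, ∑ s ∈ S, w g * g • s.1 * h • s.2 = if g = h then w g else 0 := by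
      intro g
      have h1 : ∑ s ∈ S, g • s.1 * h • s.2 = g • (if g⁻¹ * h = 1 then (1 : A) else 0) := by
        rw [← hδ, Finset.smul_sum]
        refine Finset.sum_congr rfl fun s _ => ?_
        rw [smul_mul', smul_smul, mul_inv_cancel_left]
      simp only [mul_assoc, ← Finset.mul_sum, h1, inv_mul_eq_one]
      split_ifs <;> simp
    simp [this]

end Groth.Agent.SGA1Quot
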