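import Mathlib
import Groth.Agent.SGA1Quot.GaloisRing

/-!
# Invariants of a finite group acting on an unramified algebra

If a finite group `G` acts on an unramified `B`-algebra `A` with `B = A^G`, then `A` is a finite
projective `B`-module, whatever the inertia groups are: the diagonal idempotent of `A ⊗ A` cuts
`Spec A` into clopen pieces on which the inertia group is constant.
-/

set_option autoImplicit false
set_option linter.style.haveILetI false

universe u

open TensorProduct

namespace Groth.Agent.SGA1Quot

variable {G A B : Type u} [Group G] [Finite G] [CommRing A] [CommRing B] [Algebra B A]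
  [MulSemiringAction G A] [SMulCommClass G B A]

section Idem

variable [Algebra.FormallyUnramified B A] [Algebra.EssFiniteType B A]

/-- The idempotent cutting out the locus where `g` is in the inertia group. -/
noncomputable def inertiaIdem (B : Type u) {A : Type u} [CommRing B] [CommRing A] [Algebra B A]
    [MulSemiringAction G A] [SMulCommClass G B A] [Algebra.FormallyUnramified B A]
    [Algebra.EssFiniteType B A] (g : G) : A :=
  twist g (Algebra.FormallyUnramified.elem B A)

local notation "idem" => inertiaIdem B

theorem inertiaIdem_mul_sub (g : G) (a : A) : (idem g : A) * (g • a - a) = 0 := by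
  have h := congrArg (twist (B := B) g)
    (Algebra.FormallyUnramified.one_tmul_sub_tmul_one_mul_elem (R := B) (S := A) a)
  simp only [map_mul, map_sub, map_zero, twist_tmul, one_mul, smul_one, mul_one] at h
  rw [mul_comm]; exact h

/-- An element killing `g • a - a` for all `a` is fixed by the idempotent of `g`. -/
theorem mul_inertiaIdem (c : A) (g : G) (hc : ∀ a : A, c * (g • a - a) = 0) :
    c * idem g = c := by
  have key : ∀ u : A ⊗[B] A, c * twist g u = c * Algebra.TensorProduct.lmul' B u := by
    intro u
    induction u using TensorProduct.induction_on with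
    | zero => simp
    | tmul a b =>
      rw [twist_tmul, Algebra.TensorProduct.lmul'_apply_tmul]
      linear_combination a * hc b
    | add x y hx hy => rw [map_add, map_add, mul_add, mul_add, hx, hy]
  rw [inertiaIdem, key, Algebra.FormallyUnramified.lmul_elem, mul_one]

theorem inertiaIdem_sq (g : G) : (idem g : A) * idem g = idem g :=
  mul_inertiaIdem _ g (inertiaIdem_mul_sub g)

theorem smul_inertiaIdem (k g : G) : k • (idem g : A) = idem (k * g * k⁻¹) := by
  have h1 : k • (idem g : A) * idem (k * g * k⁻¹) = k • idem g := by
    refine mul_inertiaIdem _ _ fun a => ?_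
    have := congrArg (k • ·) (inertiaIdem_mul_sub (B := B) g (k⁻¹ • a))
    simpa [smul_mul', smul_sub, smul_smul, mul_assoc] using this
  have h2 : k⁻¹ • (idem (k * g * k⁻¹) : A) * idem g = k⁻¹ • idem (k * g * k⁻¹) := by
    refine mul_inertiaIdem _ _ fun a => ?_
    have := congrArg (k⁻¹ • ·) (inertiaIdem_mul_sub (B := B) (k * g * k⁻¹) (k • a))
    simpa [smul_mul', smul_sub, smul_smul, mul_assoc] using this
  have h3 := congrArg (k • ·) h2
  simp only [smul_mul', smul_inv_smul] at h3
  rw [← h1, mul_comm]
  exact h3

variable [Fintype G] [DecidableEq G]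


/-- The idempotent of the locus with prescribed inertia. -/
noncomputable def inertiaPiece (B : Type u) {A : Type u} [CommRing B] [CommRing A] [Algebra B A]
    [MulSemiringAction G A] [SMulCommClass G B A] [Algebra.FormallyUnramified B A]
    [Algebra.EssFiniteType B A] (S : Finset G) : A :=
  (∏ g ∈ S, inertiaIdem B g) * ∏ g ∈ Finset.univ \ S, (1 - inertiaIdem B g)

local notation "piece" => inertiaPiece B

theorem sum_inertiaPiece : ∑ S : Finset G, (piece S : A) = 1 := by
  have h := Finset.prod_add (fun g : G => (idem g : A)) (fun g => 1 - idem g) Finset.univ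
  simp only [add_sub_cancel, Finset.prod_const_one, Finset.powerset_univ] at h
  exact h.symm

theorem inertiaPiece_mul_idem_of_mem {S : Finset G} {g : G} (hg : g ∈ S) :
    (piece S : A) * idem g = piece S := by
  rw [inertiaPiece, mul_comm (_ * _) (inertiaIdem B g), ← mul_assoc,
    ← Finset.mul_prod_erase S _ hg, ← mul_assoc (inertiaIdem B g), inertiaIdem_sq]

theorem inertiaPiece_mul_idem_of_notMem {S : Finset G} {g : G} (hg : g ∉ S) :
    (piece S : A) * idem g = 0 := by
  have hg' : g ∈ Finset.univ \ S := by simp [hg]
  rw [inertiaPiece, ← Finset.mul_prod_erase _ _ hg']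
  linear_combination (-(∏ x ∈ S, inertiaIdem B x) *
    ∏ x ∈ (Finset.univ \ S).erase g, (1 - inertiaIdem B x)) * inertiaIdem_sq (B := B) (A := A) g

theorem smul_inertiaPiece (k : G) (S : Finset G) :
    k • (piece S : A) = piece (S.map (MulAut.conj k).toEquiv.toEmbedding) := by
  have hu : Finset.univ \ S.map (MulAut.conj k).toEquiv.toEmbedding =
      (Finset.univ \ S).map (MulAut.conj k).toEquiv.toEmbedding := by
    rw [Finset.map_sdiff, Finset.map_univ_equiv]
  simp only [inertiaPiece, smul_mul', Finset.smul_prod', hu, Finset.prod_map]
  simp only [smul_sub, smul_one, smul_inertiaIdem]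
  rfl

/-- Elements of the subgroup generated by `S` act trivially modulo the piece of `S`. -/
theorem inertiaPiece_mul_sub {S : Finset G} {g : G} (hg : g ∈ Subgroup.closure (S : Set G)) :
    ∀ a : A, (piece S : A) * (g • a - a) = 0 := by
  induction hg using Subgroup.closure_induction with
  | mem g hg =>
    intro a
    rw [← inertiaPiece_mul_idem_of_mem (Finset.mem_coe.1 hg), mul_assoc, inertiaIdem_mul_sub,
      mul_zero]
  | one => simp
  | mul x y _ _ hx hy =>
    intro a
    rw [mul_smul]
    linear_combination hx (y • a) + hy a
  | inv x _ hx =>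
    intro a
    have := hx (x⁻¹ • a)
    rw [smul_inv_smul] at this
    linear_combination -this

theorem mem_of_mem_closure {S : Finset G} {g : G} (hg : g ∈ Subgroup.closure (S : Set G))
    (a : A) : (piece S : A) * (g • a) * idem g = piece S * a := by
  have h := mul_inertiaIdem (B := B) _ g (inertiaPiece_mul_sub (B := B) (A := A) hg)
  linear_combination (inertiaIdem B g) * inertiaPiece_mul_sub (B := B) (A := A) hg a + a * h

end Idem

/-- A finite group acting on an unramified algebra over its invariants makes it finite
projective. -/
theorem finite_projective_of_isInvariant_unramified [Algebra.IsInvariant B A G]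
    [Algebra.FormallyUnramified B A] [Algebra.EssFiniteType B A]
    (hinj : Function.Injective (algebraMap B A)) :
    Module.Finite B A ∧ Module.Projective B A := by
  classical
  cases nonempty_fintype G
  let H : Finset G → Subgroup G := fun S => Subgroup.closure (S : Set G)
  let Tl : A →ₗ[B] A := ∑ S : Finset G, ∑ q : Quotient (QuotientGroup.rightRel (H S)),
    (LinearMap.mulLeft B (inertiaPiece B S : A)).comp
      (MulSemiringAction.toAlgHom B A q.out).toLinearMap
  have hTl : ∀ a, Tl a = ∑ S : Finset G, ∑ q : Quotient (QuotientGroup.rightRel (H S)),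
      inertiaPiece B S * (q.out • a) := fun a => by simp [Tl]
  have hwd : ∀ (S : Finset G) (g g' : G), g' * g⁻¹ ∈ H S → ∀ a : A,
      inertiaPiece B S * (g' • a) = inertiaPiece B S * (g • a) := by
    intro S g g' hgg a
    have := inertiaPiece_mul_sub (B := B) hgg (g • a)
    rw [smul_smul, inv_mul_cancel_right] at this
    linear_combination this
  have hinv : ∀ (a : A) (k : G), k • Tl a = Tl a := by
    intro a k
    simp only [hTl, Finset.smul_sum, smul_mul', smul_inertiaPiece, smul_smul]
    let σ : G ≃ G := (MulAut.conj k).toEquiv
    refine Fintype.sum_equiv (Equiv.finsetCongr σ) _ _ fun S => ?_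
    have hH : ∀ x : G, σ x ∈ H (S.map σ.toEmbedding) ↔ x ∈ H S := by
      intro x
      have : H (S.map σ.toEmbedding) = (H S).map (MulAut.conj k).toMonoidHom := by
        simp only [H, MonoidHom.map_closure, Finset.coe_map]
        rfl
      rw [this]
      exact Subgroup.mem_map_iff_mem (MulAut.conj k).injective
    let e : Quotient (QuotientGroup.rightRel (H S)) ≃
        Quotient (QuotientGroup.rightRel (H (S.map σ.toEmbedding))) :=
      Quotient.congr (Equiv.mulLeft k) fun g g' => by
        rw [QuotientGroup.rightRel_apply, QuotientGroup.rightRel_apply, ← hH (g' * g⁻¹)]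
        simp [σ, mul_assoc]
    refine Fintype.sum_equiv e _ _ fun q => ?_
    change _ = inertiaPiece B (S.map σ.toEmbedding) * _
    refine hwd _ _ _ ?_ a
    induction q using Quotient.inductionOn with
    | h g =>
      change k * (Quotient.mk _ g).out * (Quotient.mk _ (k * g)).out⁻¹ ∈ _
      have h1 : (Quotient.mk (QuotientGroup.rightRel (H S)) g).out * g⁻¹ ∈ H S := by
        have := Quotient.mk_out (s := QuotientGroup.rightRel (H S)) g
        rw [QuotientGroup.rightRel_apply] at this
        simpa using inv_mem this
      have h2 := Quotient.mk_out (s := QuotientGroup.rightRel (H (S.map σ.toEmbedding))) (k * g)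
      rw [QuotientGroup.rightRel_apply] at h2
      have h3 := mul_mem ((hH _).2 h1) h2
      convert h3 using 1
      simp [σ, mul_assoc]
      rfl
  obtain ⟨s, hs⟩ := TensorProduct.exists_finset (Algebra.FormallyUnramified.elem B A)
  have hexp : ∀ a : A, ∑ i ∈ s, i.1 * Tl (i.2 * a) = a := by
    intro a
    have hid : ∀ g : G, ∑ i ∈ s, i.1 * g • i.2 = (inertiaIdem B g : A) := fun g => by
      rw [inertiaIdem]
      conv_rhs => rw [hs, map_sum]
      simp
    calc ∑ i ∈ s, i.1 * Tl (i.2 * a)
        = ∑ S : Finset G, ∑ q : Quotient (QuotientGroup.rightRel (H S)),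
            inertiaPiece B S * (q.out • a) * inertiaIdem B q.out := by
          simp only [hTl, Finset.mul_sum, ← hid, smul_mul']
          rw [Finset.sum_comm]
          refine Finset.sum_congr rfl fun S _ => ?_
          rw [Finset.sum_comm]
          refine Finset.sum_congr rfl fun q _ => Finset.sum_congr rfl fun i _ => ?_
          ring
      _ = ∑ S : Finset G, inertiaPiece B S * a := by
          refine Finset.sum_congr rfl fun S _ => ?_
          let q₀ : Quotient (QuotientGroup.rightRel (H S)) := Quotient.mk _ 1
          have hq₀ : q₀.out ∈ H S := by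
            have := Quotient.mk_out (s := QuotientGroup.rightRel (H S)) 1
            rw [QuotientGroup.rightRel_apply, one_mul] at this
            simpa using inv_mem this
          rw [Finset.sum_eq_single q₀]
          · exact mem_of_mem_closure hq₀ a
          · intro q _ hq
            rw [mul_right_comm, inertiaPiece_mul_idem_of_notMem, zero_mul]
            intro hmem
            apply hq
            rw [← Quotient.out_eq q]
            refine Quotient.sound ?_
            change QuotientGroup.rightRel (H S) q.out 1
            rw [QuotientGroup.rightRel_apply, one_mul]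
            exact inv_mem (Subgroup.subset_closure hmem)
          · simp
      _ = a := by rw [← Finset.sum_mul, sum_inertiaPiece, one_mul]
  have htmem : ∀ a, Tl a ∈ LinearMap.range (Algebra.linearMap B A) := fun a => by
    obtain ⟨b, hb⟩ := Algebra.IsInvariant.isInvariant (A := B) (G := G) (Tl a) (hinv a)
    exact ⟨b, hb⟩
  let T : A →ₗ[B] B :=
    (LinearEquiv.ofInjective (Algebra.linearMap B A) hinj).symm.toLinearMap ∘ₗ
      Tl.codRestrict _ htmem
  have hT : ∀ a, algebraMap B A (T a) = Tl a := fun a =>
    congrArg Subtype.val ((LinearEquiv.ofInjective (Algebra.linearMap B A) hinj).apply_symm_apply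
      ⟨Tl a, htmem a⟩)
  let back : (s → B) →ₗ[B] A := ∑ i : s, (LinearMap.proj i).smulRight i.1.1
  let fwd : A →ₗ[B] (s → B) := LinearMap.pi fun i => T ∘ₗ LinearMap.mulLeft B i.1.2
  have hsplit : back.comp fwd = LinearMap.id := by
    ext a
    simp only [back, fwd, LinearMap.comp_apply, LinearMap.sum_apply, LinearMap.smulRight_apply,
      LinearMap.proj_apply, LinearMap.pi_apply, LinearMap.mulLeft_apply, LinearMap.id_apply,
      Algebra.smul_def, hT]
    refine (Finset.sum_coe_sort s fun i => Tl (i.2 * a) * i.1).trans ?_
    simp only [mul_comm _ (Prod.fst _)]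
    exact hexp a
  exact ⟨Module.Finite.of_surjective back fun b => ⟨fwd b, LinearMap.congr_fun hsplit b⟩,
    Module.Projective.of_split fwd back hsplit⟩

end Groth.Agent.SGA1Quot
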