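import Mathlib
import Groth.Prelude.Def_SGA1
import Groth.Agent.SGA1Quot.InertiaGalois
import Groth.Agent.SGA1Quot.Finiteness

/-!
# An unramified quotient by a finite group is etale
-/

set_option autoImplicit false
set_option linter.style.haveILetI false

universe u

open CategoryTheory CategoryTheory.Limits AlgebraicGeometry Topology TopologicalSpace

namespace Groth.Agent.SGA1Quot

variable {X Y : Scheme.{u}} {G : Type u} [Group G] [Finite G] {ρ : G →* Aut X} {p : X ⟶ Y}

theorem etale_app_of_isQuot (hp : SGA1.IsQuot ρ p) [FormallyUnramified p]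
    [LocallyOfFiniteType p] {U : Y.Opens} (hU : IsAffineOpen U) :
    (p.app U).hom.Etale := by
  haveI := hp.affine
  letI := mulSemiringAction hp.inv U
  letI := (p.app U).hom.toAlgebra
  haveI := smulCommClass (X := X) (Y := Y) hp.inv U
  haveI := isInvariant (good_of_isQuot hp U)
  have hun : (p.app U).hom.FormallyUnramified := by
    rw [Scheme.Hom.app_eq_appLE]
    exact p.formallyUnramified_appLE hU (hU.preimage p) _
  have hft : (p.app U).hom.FiniteType := by
    rw [Scheme.Hom.app_eq_appLE]
    exact p.finiteType_appLE hU (hU.preimage p) _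
  haveI : Algebra.FormallyUnramified Γ(Y, U) Γ(X, p ⁻¹ᵁ U) := hun
  haveI : Algebra.FiniteType Γ(Y, U) Γ(X, p ⁻¹ᵁ U) := hft
  obtain ⟨h1, h2⟩ := finite_projective_of_isInvariant_unramified (G := G)
    (A := Γ(X, p ⁻¹ᵁ U)) (B := Γ(Y, U)) (hp.injective U)
  haveI : Module.FinitePresentation Γ(Y, U) Γ(X, p ⁻¹ᵁ U) :=
    Module.finitePresentation_of_projective _ _
  have hflat : (p.app U).hom.Flat :=
    (inferInstance : Module.Flat Γ(Y, U) Γ(X, p ⁻¹ᵁ U))
  have hfp : (p.app U).hom.FinitePresentation :=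
    (inferInstance : Algebra.FinitePresentation Γ(Y, U) Γ(X, p ⁻¹ᵁ U))
  exact RingHom.Etale.iff_flat_and_formallyUnramified.2 ⟨hflat, hun, hfp⟩

theorem etale_of_isQuot (hp : SGA1.IsQuot ρ p) [FormallyUnramified p] [LocallyOfFiniteType p] :
    Etale p := by
  haveI := hp.affine
  rw [IsZariskiLocalAtTarget.iff_of_iSup_eq_top (P := @Etale) (fun U : Y.affineOpens => U.1)
    (iSup_affineOpens_eq_top Y)]
  intro i
  have hU : IsAffineOpen i.1 := i.2
  haveI : IsAffine i.1.toScheme := hU
  haveI : IsAffine (p ⁻¹ᵁ i.1).toScheme := hU.preimage p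
  rw [HasRingHomProperty.iff_of_isAffine (P := @Etale)]
  have e := morphismRestrict_appTop p i.1
  have hf' : ∀ V, V = i.1 → (p.app V).hom.Etale := fun V hV => hV ▸ etale_app_of_isQuot hp hU
  rw [e]
  exact RingHom.Etale.stableUnderComposition _ _ (hf' _ (Scheme.Opens.ι_image_top _))
    (RingHom.Etale.of_bijective
      (X.presheaf.mapIso (eqToIso (image_morphismRestrict_preimage p i.1 ⊤)).op).commRingCatIsoToRingEquiv.bijective)

end Groth.Agent.SGA1Quot
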