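import Mathlib
import Groth.Prelude.Def_SGA1
import Groth.Agent.SGA1Quot.Orbits
import Groth.Agent.SGA1Quot.Residue
import Groth.Agent.SGA1Quot.Geom
import Groth.Agent.SGA1Quot.Sigma
import Groth.Agent.SGA1Quot.GaloisRing

/-!
# Free quotients are torsors; etale quotients are free
-/

set_option autoImplicit false
set_option linter.style.haveILetI false
set_option maxHeartbeats 400000

universe u

open CategoryTheory CategoryTheory.Limits AlgebraicGeometry Topology TopologicalSpace

namespace Groth.Agent.SGA1Quot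

variable {X Y : Scheme.{u}} {G : Type u} [Group G] {ρ : G →* Aut X} {p : X ⟶ Y}

/-- `G` acts freely on geometric points. -/
def FreeGeom (ρ : G →* Aut X) : Prop :=
  ∀ (K : Type u) [Field K] [IsAlgClosed K] (ξ : Spec (CommRingCat.of K) ⟶ X) (g : G),
    ξ ≫ (ρ g).hom = ξ → g = 1

theorem exists_act_sub_notMem (hinv : ∀ g : G, (ρ g).hom ≫ p = p) [IsAffineHom p]
    (hfree : FreeGeom ρ) {U : Y.Opens} (hU : IsAffineOpen U) (g : G) (hg : g ≠ 1)
    (P : Ideal Γ(X, p ⁻¹ᵁ U)) (hP : P.IsPrime) :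
    ∃ a, act ρ p hinv g U a - a ∉ P := by
  by_contra! h
  apply hg
  have hU' := hU.preimage p
  let K := AlgebraicClosure P.ResidueField
  let φ : Γ(X, p ⁻¹ᵁ U) →+* K :=
    (algebraMap P.ResidueField K).comp (algebraMap _ P.ResidueField)
  refine hfree K (Spec.map (CommRingCat.ofHom φ) ≫ hU'.fromSpec) g ?_
  rw [Category.assoc, ← IsAffineOpen.SpecMap_appLE_fromSpec (ρ g).hom hU' hU'
    (SGA1.preimage_le_of_inv ρ p hinv g U), ← Category.assoc, ← Spec.map_comp]
  congr 2
  ext a
  change φ (act ρ p hinv g U a) = φ a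
  rw [← sub_eq_zero, ← map_sub]
  change algebraMap P.ResidueField K (algebraMap _ P.ResidueField _) = 0
  rw [Ideal.algebraMap_residueField_eq_zero.2 (h a), map_zero]

/-- Sections of a coproduct are determined by their restrictions to the summands. -/
theorem sigma_sections_ext {ι : Type u} {W : ι → Scheme.{u}} (V : (∐ W).Opens)
    (s t : Γ(∐ W, V))
    (h : ∀ i, (Sigma.ι W i).app V s = (Sigma.ι W i).app V t) : s = t := by
  refine TopCat.Presheaf.section_ext (∐ W).sheaf V s t fun z hz => ?_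
  obtain ⟨⟨i, w⟩, rfl⟩ := (sigmaMk W).surjective z
  have hw : (Sigma.ι W i).base w = sigmaMk W ⟨i, w⟩ := (sigmaMk_mk W i w).symm
  revert hz
  rw [← hw]
  intro hz
  apply (ConcreteCategory.bijective_of_isIso ((Sigma.ι W i).stalkMap w)).1
  have e1 := Scheme.Hom.germ_stalkMap_apply (Sigma.ι W i) V w hz s
  have e2 := Scheme.Hom.germ_stalkMap_apply (Sigma.ι W i) V w hz t
  exact e1.trans ((congrArg _ (h i)).trans e2.symm)

variable [Finite G]

theorem galois_affine (hp : SGA1.IsQuot ρ p) (hfree : FreeGeom ρ) {U : Y.Opens}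
    (hU : IsAffineOpen U) :
    letI := mulSemiringAction hp.inv U
    letI := (p.app U).hom.toAlgebra
    letI := smulCommClass (X := X) (Y := Y) hp.inv U
    Module.Finite Γ(Y, U) Γ(X, p ⁻¹ᵁ U) ∧ Module.Projective Γ(Y, U) Γ(X, p ⁻¹ᵁ U) ∧
      Function.Bijective (fun z : TensorProduct Γ(Y, U) Γ(X, p ⁻¹ᵁ U) Γ(X, p ⁻¹ᵁ U) =>
        fun h : G => twist h z) := by
  letI := mulSemiringAction hp.inv U
  letI := (p.app U).hom.toAlgebra
  haveI := smulCommClass (X := X) (Y := Y) hp.inv U
  haveI := isInvariant (good_of_isQuot hp U)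
  haveI := hp.affine
  refine galois_of_free (hp.injective U) fun g hg P hP => ?_
  obtain ⟨a, ha⟩ := exists_act_sub_notMem hp.inv hfree hU g⁻¹ (inv_ne_one.2 hg) P hP
  exact ⟨a, ha⟩

theorem flat_of_free (hp : SGA1.IsQuot ρ p) (hfree : FreeGeom ρ) : Flat p := by
  haveI := hp.affine
  rw [IsZariskiLocalAtTarget.iff_of_iSup_eq_top (P := @Flat) (fun U : Y.affineOpens => U.1)
    (iSup_affineOpens_eq_top Y)]
  intro i
  have hU : IsAffineOpen i.1 := i.2
  haveI : IsAffine i.1.toScheme := hU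
  haveI : IsAffine (p ⁻¹ᵁ i.1).toScheme := hU.preimage p
  rw [HasRingHomProperty.iff_of_isAffine (P := @Flat)]
  have e := (morphismRestrict_appTop p i.1)
  letI := (p.app i.1).hom.toAlgebra
  haveI : Module.Projective Γ(Y, i.1)
      Γ(X, p ⁻¹ᵁ i.1) := (galois_affine hp hfree hU).2.1
  have hf : (p.app i.1).hom.Flat :=
    (inferInstance : Module.Flat Γ(Y, i.1)
      Γ(X, p ⁻¹ᵁ i.1))
  have hf' : ∀ V, V = i.1 → (p.app V).hom.Flat := fun V hV => hV ▸ hf
  rw [e]
  exact RingHom.Flat.comp (hf' _ (Scheme.Opens.ι_image_top _))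
    (RingHom.Flat.of_bijective
      (X.presheaf.mapIso (eqToIso (image_morphismRestrict_preimage p i.1 ⊤)).op).commRingCatIsoToRingEquiv.bijective)

theorem isIso_translates (hp : SGA1.IsQuot ρ p) (hfree : FreeGeom ρ)
    (υ : (∐ fun _ : G => X) ⟶ pullback p p)
    (h1 : ∀ g : G, Sigma.ι (fun _ : G => X) g ≫ υ ≫ pullback.fst p p = 𝟙 X)
    (h2 : ∀ g : G, Sigma.ι (fun _ : G => X) g ≫ υ ≫ pullback.snd p p = (ρ g).hom) :
    IsIso υ := by
  classical
  cases nonempty_fintype G
  haveI := hp.affine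
  haveI : IsAffineHom υ := by
    have : υ ≫ pullback.fst p p = Sigma.desc (fun _ : G => 𝟙 X) :=
      Sigma.hom_ext _ _ fun σ => by rw [h1, Sigma.ι_desc]
    haveI : IsFinite (υ ≫ pullback.fst p p) := by
      rw [this]; exact isFinite_sigmaDesc G _ _ fun _ => inferInstance
    haveI : IsAffineHom (υ ≫ pullback.fst p p) := inferInstance
    exact IsAffineHom.of_comp υ (pullback.fst p p)
  rw [← MorphismProperty.isomorphisms.iff]
  let O : Y.affineOpens → (pullback p p).Opens :=
    fun U => (pullback.fst p p ≫ p) ⁻¹ᵁ U.1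
  haveI : IsAffineHom (pullback.fst p p) :=
    MorphismProperty.pullback_fst _ _ (inferInstanceAs (IsAffineHom p))
  have hOaff : ∀ U, IsAffineOpen (O U) := fun U => U.2.preimage _
  have hOcov : iSup O = ⊤ := eq_top_iff.2 fun z _ => by
    obtain ⟨U, hU, hz, -⟩ := exists_isAffineOpen_mem_and_subset
      (x := (pullback.fst p p ≫ p).base z) (U := ⊤) trivial
    exact Opens.mem_iSup.2 ⟨⟨U, hU⟩, hz⟩
  rw [IsZariskiLocalAtTarget.iff_of_iSup_eq_top (P := MorphismProperty.isomorphisms Scheme) O hOcov]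
  intro U
  haveI : IsAffine (O U).toScheme := hOaff U
  rw [HasAffineProperty.iff_of_isAffine (P := MorphismProperty.isomorphisms Scheme)]
  refine ⟨(hOaff U).preimage υ, ?_⟩
  have happ : IsIso (υ.app (O U)) := by
    rw [ConcreteCategory.isIso_iff_bijective]
    letI := mulSemiringAction hp.inv U.1
    letI iA : Algebra Γ(Y, U.1) Γ(X, p ⁻¹ᵁ U.1) := (p.app U.1).hom.toAlgebra
    haveI := smulCommClass (X := X) (Y := Y) hp.inv U.1
    have hbij := (galois_affine hp hfree U.2).2.2
    have hO : O U = pullback.fst p p ⁻¹ᵁ (p ⁻¹ᵁ U.1) ⊓ pullback.snd p p ⁻¹ᵁ (p ⁻¹ᵁ U.1) := by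
      simp only [O, ← Scheme.Hom.comp_preimage, ← pullback.condition, inf_idem]
    have hpush := (isIso_pushoutSection_iff (IsPullback.of_hasPullback p p)
      (UT := p ⁻¹ᵁ U.1) le_rfl le_rfl hO).1
      (isIso_pushoutSection_of_isAffineOpen (IsPullback.of_hasPullback p p)
        (UT := p ⁻¹ᵁ U.1) le_rfl le_rfl hO U.2 (U.2.preimage p) (U.2.preimage p))
    have happ : p.appLE U.1 (p ⁻¹ᵁ U.1) le_rfl = p.app U.1 := (p.app_eq_appLE).symm
    rw [happ] at hpush
    let e := (CommRingCat.isPushout_tensorProduct Γ(Y, U.1) Γ(X, p ⁻¹ᵁ U.1)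
      Γ(X, p ⁻¹ᵁ U.1)).isoIsPushout _ _ hpush
    have hle : ∀ g : G, p ⁻¹ᵁ U.1 ≤ Sigma.ι (fun _ : G => X) g ⁻¹ᵁ (υ ⁻¹ᵁ O U) := fun g => by
      rw [← Scheme.Hom.comp_preimage, ← Scheme.Hom.comp_preimage,
        show (Sigma.ι (fun _ : G => X) g ≫ υ) ≫ pullback.fst p p ≫ p = p by
          simp only [Category.assoc, reassoc_of% (h1 g)]]
    let r : G → (Γ(∐ fun _ : G => X, υ ⁻¹ᵁ O U) ⟶ Γ(X, p ⁻¹ᵁ U.1)) := fun g =>
      (Sigma.ι (fun _ : G => X) g).appLE _ _ (hle g)
    have hkey : ∀ g : G, e.hom ≫ υ.app (O U) ≫ r g =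
        CommRingCat.ofHom (twist (A := Γ(X, p ⁻¹ᵁ U.1)) (B := Γ(Y, U.1)) g⁻¹).toRingHom := by
      intro g
      apply (CommRingCat.isPushout_tensorProduct Γ(Y, U.1) Γ(X, p ⁻¹ᵁ U.1)
        Γ(X, p ⁻¹ᵁ U.1)).hom_ext
      · rw [IsPushout.inl_isoIsPushout_hom_assoc]
        simp only [r, Scheme.Hom.app_eq_appLE, Scheme.Hom.appLE_comp_appLE]
        rw [appLE_congr_hom ((Category.assoc _ _ _).trans (h1 g)), id_appLE]
        refine (X.presheaf.map_id (Opposite.op (p ⁻¹ᵁ U.1))).trans ?_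
        ext a
        change a = twist g⁻¹ (a ⊗ₜ[Γ(Y, U.1)] (1 : Γ(X, p ⁻¹ᵁ U.1)))
        rw [twist_tmul, smul_one, mul_one]
      · rw [IsPushout.inr_isoIsPushout_hom_assoc]
        simp only [r, Scheme.Hom.app_eq_appLE, Scheme.Hom.appLE_comp_appLE]
        rw [appLE_congr_hom ((Category.assoc _ _ _).trans (h2 g))]
        ext a
        change _ = twist g⁻¹ ((1 : Γ(X, p ⁻¹ᵁ U.1)) ⊗ₜ[Γ(Y, U.1)] a)
        rw [twist_tmul, one_mul]
        change _ = act ρ p hp.inv g⁻¹⁻¹ U.1 a
        rw [inv_inv]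
        rfl
    let R : Γ(∐ fun _ : G => X, υ ⁻¹ᵁ O U) → (G → Γ(X, p ⁻¹ᵁ U.1)) :=
      fun s h => (r h⁻¹).hom s
    have hR : Function.Injective R := by
      intro s t hst
      refine sigma_sections_ext _ s t fun g => ?_
      have e1 := congrFun hst g⁻¹
      simp only [R, inv_inv] at e1
      have hpre : Sigma.ι (fun _ : G => X) g ⁻¹ᵁ (υ ⁻¹ᵁ O U) = p ⁻¹ᵁ U.1 := by
        simp only [O, ← Scheme.Hom.comp_preimage, Category.assoc, reassoc_of% (h1 g)]
      haveI : IsIso (X.presheaf.map (homOfLE (hle g)).op) := by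
        rw [show homOfLE (hle g) = eqToHom hpre.symm from Subsingleton.elim _ _]
        exact (X.presheaf.mapIso (eqToIso hpre.symm).op).isIso_hom
      apply (ConcreteCategory.bijective_of_isIso (X.presheaf.map (homOfLE (hle g)).op)).1
      simp only [r, Scheme.Hom.appLE] at e1
      exact e1
    have hbij' : Function.Bijective (R ∘ (υ.app (O U)).hom ∘ e.hom.hom) := by
      convert hbij using 1
      funext z h
      have := ConcreteCategory.congr_hom (hkey h⁻¹) z
      rw [inv_inv] at this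
      exact this
    have he := ConcreteCategory.bijective_of_isIso e.hom
    have h3 : Function.Bijective (R ∘ (υ.app (O U)).hom) :=
      (Function.Bijective.of_comp_iff _ he).1 hbij'
    exact ⟨Function.Injective.of_comp h3.1, fun s => by
      obtain ⟨a, ha⟩ := h3.2 (R s)
      exact ⟨a, hR ha⟩⟩
  rw [morphismRestrict_appTop]
  have happ' : ∀ V, V = O U → IsIso (υ.app V) := fun V hV => hV ▸ happ
  haveI := happ' _ (Scheme.Opens.ι_image_top (O U))
  haveI : IsIso ((∐ fun _ : G => X).presheaf.map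
      (eqToHom (image_morphismRestrict_preimage υ (O U) ⊤)).op) :=
    ((∐ fun _ : G => X).presheaf.mapIso
      (eqToIso (image_morphismRestrict_preimage υ (O U) ⊤)).op).isIso_hom
  exact @IsIso.comp_isIso _ _ _ _ _ _ _ (happ' _ (Scheme.Opens.ι_image_top (O U))) this

theorem isIso_section_translates (hp : SGA1.IsQuot ρ p) (hfree : FreeGeom ρ) (s : Y ⟶ X)
    (hs : s ≫ p = 𝟙 Y) :
    IsIso (Sigma.desc (fun g : G => s ≫ (ρ g).hom) : (∐ fun _ : G => Y) ⟶ X) := by
  let υ : (∐ fun _ : G => X) ⟶ pullback p p :=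
    Sigma.desc fun g => pullback.lift (𝟙 X) (ρ g).hom ((Category.id_comp p).trans (hp.inv g).symm)
  haveI : IsIso υ := isIso_translates hp hfree υ
    (fun g => by rw [Sigma.ι_desc_assoc]; exact pullback.lift_fst _ _ _)
    (fun g => by rw [Sigma.ι_desc_assoc]; exact pullback.lift_snd _ _ _)
  let d : X ⟶ pullback p p := pullback.lift (p ≫ s) (𝟙 X)
    (by rw [Category.assoc, hs, Category.comp_id, Category.id_comp])
  let φ : (∐ fun _ : G => Y) ⟶ X := Sigma.desc fun g : G => s ≫ (ρ g).hom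
  let w : X ⟶ ∐ fun _ : G => X := d ≫ inv υ
  let c : (∐ fun _ : G => X) ⟶ ∐ fun _ : G => Y :=
    Sigma.desc fun g => p ≫ Sigma.ι (fun _ : G => Y) g
  refine ⟨w ≫ c, ?_, ?_⟩
  · refine Sigma.hom_ext _ _ fun g => ?_
    rw [Category.comp_id, Sigma.ι_desc_assoc]
    have key : (s ≫ (ρ g).hom) ≫ d = s ≫ Sigma.ι (fun _ : G => X) g ≫ υ := by
      simp only [υ, Sigma.ι_desc]
      apply pullback.hom_ext
      · simp only [Category.assoc]
        erw [pullback.lift_fst, pullback.lift_fst, reassoc_of% (hp.inv g), reassoc_of% hs,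
          Category.comp_id]
      · simp only [Category.assoc]
        erw [pullback.lift_snd, pullback.lift_snd, Category.comp_id]
    simp only [w, ← Category.assoc]
    rw [key]
    simp only [Category.assoc, IsIso.hom_inv_id_assoc]
    simp only [c, Sigma.ι_desc, reassoc_of% hs]
  · refine Scheme.Cover.hom_ext ((sigmaOpenCover fun _ : G => X).pullback₁ w) _ _ fun g => ?_
    rw [Category.comp_id]
    let a := pullback.fst w (Sigma.ι (fun _ : G => X) g)
    let b := pullback.snd w (Sigma.ι (fun _ : G => X) g)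
    change a ≫ (w ≫ c) ≫ φ = a
    have hb : a ≫ w = b ≫ Sigma.ι (fun _ : G => X) g := pullback.condition
    have hw : a ≫ d = b ≫ Sigma.ι (fun _ : G => X) g ≫ υ := by
      rw [← reassoc_of% hb]; simp [w]
    have hwf := congrArg (· ≫ pullback.fst p p) hw
    have hws := congrArg (· ≫ pullback.snd p p) hw
    simp only [υ, d, Sigma.ι_desc, Category.assoc] at hwf hws
    erw [pullback.lift_fst, pullback.lift_fst, Category.comp_id] at hwf
    erw [pullback.lift_snd, pullback.lift_snd, Category.comp_id] at hws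
    rw [Category.assoc, reassoc_of% hb]
    simp only [c, φ, Sigma.ι_desc_assoc, Category.assoc, Sigma.ι_desc]
    conv_rhs => rw [hws, ← hwf]
    rw [← hwf]
    simp only [Category.assoc, reassoc_of% hs]

/-- Two endomorphisms over `Y` of a connected scheme étale and separated over `Y` that agree at
one point-with-values-in-a-field coincide. -/
theorem hom_eq_of_eq_at [ConnectedSpace X] [FormallyUnramified p] [LocallyOfFiniteType p]
    [IsSeparated p] {K : Type u} [Field K] (ξ : Spec (CommRingCat.of K) ⟶ X) (a b : X ⟶ X)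
    (ha : a ≫ p = p) (hb : b ≫ p = p) (h : ξ ≫ a = ξ ≫ b) : a = b := by
  let l : X ⟶ pullback p p := pullback.lift a b (ha.trans hb.symm)
  let e := pullback.fst l (pullback.diagonal p)
  haveI hopen : IsOpenImmersion e :=
    MorphismProperty.pullback_fst _ _ (inferInstanceAs (IsOpenImmersion (pullback.diagonal p)))
  haveI hclosed : IsClosedImmersion e :=
    MorphismProperty.pullback_fst _ _ (inferInstanceAs (IsClosedImmersion (pullback.diagonal p)))
  have hne : (Set.range e.base).Nonempty := by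
    refine ⟨_, (pullback.lift ξ (ξ ≫ a) ?_ :
      Spec (CommRingCat.of K) ⟶ pullback l (pullback.diagonal p)).base
        (IsLocalRing.closedPoint K), rfl⟩
    apply pullback.hom_ext
    · simp only [l, Category.assoc]
      erw [pullback.lift_fst, pullback.diagonal_fst, Category.comp_id]
    · simp only [l, Category.assoc]
      erw [pullback.lift_snd, pullback.diagonal_snd, Category.comp_id]
      exact h.symm
  have huniv : Set.range e.base = Set.univ :=
    IsClopen.eq_univ ⟨e.isClosedEmbedding.isClosed_range, e.isOpenEmbedding.isOpen_range⟩ hne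
  haveI : Surjective e := ⟨Set.range_eq_univ.1 huniv⟩
  haveI : IsIso e := (isIso_iff_isOpenImmersion_and_surjective e).2 ⟨hopen, inferInstance⟩
  rw [← cancel_epi e]
  have c := pullback.condition (f := l) (g := pullback.diagonal p)
  have c1 := congrArg (· ≫ pullback.fst p p) c
  have c2 := congrArg (· ≫ pullback.snd p p) c
  simp only [l, Category.assoc, pullback.lift_fst, pullback.diagonal_fst, Category.comp_id] at c1
  simp only [l, Category.assoc, pullback.lift_snd, pullback.diagonal_snd, Category.comp_id] at c2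
  exact c1.trans c2.symm

theorem geomTransitive_of_isQuot (hp : SGA1.IsQuot ρ p) (Ω : Type u) [Field Ω]
    (τ₁ τ₂ : Spec (CommRingCat.of Ω) ⟶ X) (hτ : τ₁ ≫ p = τ₂ ≫ p) :
    ∃ g : G, τ₁ ≫ (ρ g).hom = τ₂ := by
  refine geomTransitive p ρ hp.inv (fun x y h => (eq_iff_exists hp x y).1 h)
    (fun x => (normal_and_surjective hp x).1) (fun x σ hσ => ?_) Ω τ₁ τ₂ hτ
  obtain ⟨g, e, he⟩ := (normal_and_surjective hp x).2 σ hσ
  refine ⟨g, ?_⟩
  rw [he, Spec.map_comp, Category.assoc, Scheme.residueFieldCongr_inv,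
    Scheme.residueFieldCongr_fromSpecResidueField]
  exact (Scheme.Hom.SpecMap_residueFieldMap_fromSpecResidueField _ _).symm

theorem etale_free_and_aut (hp : SGA1.IsQuot ρ p) [ConnectedSpace X]
    (hfaith : Function.Injective ρ) [Etale p] :
    FreeGeom ρ ∧ ∀ u : Aut X, u.hom ≫ p = p → ∃! g : G, ρ g = u := by
  haveI := hp.affine
  refine ⟨fun K _ _ ξ g hg => ?_, fun u hu => ?_⟩
  · apply hfaith
    rw [map_one]
    apply Iso.ext
    exact hom_eq_of_eq_at (p := p) ξ _ (𝟙 X) (hp.inv g) (Category.id_comp p)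
      (hg.trans (Category.comp_id ξ).symm)
  · obtain ⟨x⟩ := (inferInstance : Nonempty X)
    let K := AlgebraicClosure (X.residueField x)
    let ξ : Spec (CommRingCat.of K) ⟶ X :=
      Spec.map (CommRingCat.ofHom (algebraMap (X.residueField x) K)) ≫ X.fromSpecResidueField x
    obtain ⟨g, hg⟩ := geomTransitive_of_isQuot hp K ξ (ξ ≫ u.hom) ((congrArg (ξ ≫ ·) hu).symm.trans (Category.assoc _ _ _).symm)
    refine ⟨g, Iso.ext (hom_eq_of_eq_at (p := p) ξ _ _ (hp.inv g) hu hg), fun g' hg' => ?_⟩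
    apply hfaith
    rw [hg']
    exact (Iso.ext (hom_eq_of_eq_at (p := p) ξ _ _ (hp.inv g) hu hg)).symm

end Groth.Agent.SGA1Quot
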