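import Mathlib

/-!
# Decomposition subgroup: completion isomorphism
-/

set_option autoImplicit false
set_option linter.style.haveILetI false
set_option maxHeartbeats 400000

universe u

open scoped Pointwise

namespace Groth.Agent.SGA1Quot.Decomp

variable {G R : Type u} [Group G] [Finite G] [CommRing R] [MulSemiringAction G R]
  (H : Subgroup G) (q : Ideal R) [q.IsPrime] (hD : MulAction.stabilizer G q ≤ H)

include hD in
omit [Finite G] in
theorem smul_q_ne {g : G} (hg : g ∉ H) {h : G} (hh : h ∈ H) : g • q ≠ h • q := by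
  intro he
  apply hg
  have hst : h⁻¹ * g ∈ MulAction.stabilizer G q := by
    rw [MulAction.mem_stabilizer_iff, mul_smul, he, inv_smul_smul]
  simpa using H.mul_mem hh (hD hst)

include hD in
/-- An invariant element outside `q` lying in every conjugate of `q` not in its `H`-orbit. -/
theorem exists_separator : ∃ e : R, (∀ h ∈ H, h • e = e) ∧ e ∉ q ∧ ∀ g ∉ H, e ∈ g • q := by
  classical
  cases nonempty_fintype G
  have step : ∀ g : {g : G // g ∉ H}, ∃ a : R, a ∈ g.1 • q ∧ ∀ h ∈ H, a ∉ h • q := by
    intro g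
    by_contra! hc
    have hsub : ((g.1 • q : Ideal R) : Set R) ⊆
        ⋃ h ∈ (↑(Finset.univ.filter fun h : G => h ∈ H) : Set G), ((h • q : Ideal R) : Set R) := by
      intro a ha
      obtain ⟨h, hh, hah⟩ := hc a ha
      exact Set.mem_biUnion (Finset.mem_coe.2 (Finset.mem_filter.2 ⟨Finset.mem_univ h, hh⟩)) hah
    obtain ⟨h, hh, hle⟩ := (Ideal.subset_union_prime (R := R) 1 1
      (fun h _ _ _ => Ideal.IsPrime.smul (I := q) h)).1 hsub
    have hh' : h ∈ H := (Finset.mem_filter.1 hh).2
    apply smul_q_ne H q hD g.2 hh'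
    have hle' : ((h⁻¹ * g.1) • q : Ideal R) ≤ q := by
      rw [mul_smul]
      have := (Ideal.pointwise_smul_le_pointwise_smul_iff (a := h⁻¹)).2 hle
      rwa [inv_smul_smul] at this
    have heq := smul_eq_of_le_smul (g := (h⁻¹ * g.1)⁻¹) (a := q) (by
      have := (Ideal.pointwise_smul_le_pointwise_smul_iff (a := (h⁻¹ * g.1)⁻¹)).2 hle'
      rwa [inv_smul_smul] at this)
    rw [inv_smul_eq_iff, mul_smul, eq_inv_smul_iff] at heq
    exact heq.symm
  choose a ha hna using step
  let A := ∏ g, a g
  have hA : ∀ h ∈ H, A ∉ h • q := fun h hh hmem => by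
    obtain ⟨g, -, hg⟩ := ((Ideal.IsPrime.smul (I := q) h).prod_mem_iff).1 hmem
    exact hna g h hh hg
  let e := ∏ h : H, (h : G) • A
  refine ⟨e, fun h hh => ?_, ?_, fun g hg => ?_⟩
  · simp only [e, Finset.smul_prod', smul_smul]
    exact Fintype.prod_equiv (Equiv.mulLeft (⟨h, hh⟩ : H)) _ _ fun _ => rfl
  · intro hmem
    obtain ⟨h, -, hh⟩ := (‹q.IsPrime›.prod_mem_iff).1 hmem
    apply hA (h : G)⁻¹ (H.inv_mem h.2)
    exact Ideal.mem_inv_pointwise_smul_iff.2 hh
  · refine Ideal.prod_mem (g • q) (Finset.mem_univ (1 : H)) ?_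
    rw [OneMemClass.coe_one, one_smul]
    exact Ideal.prod_mem _ (Finset.mem_univ ⟨g, hg⟩) (ha ⟨g, hg⟩)

variable (hle : FixedPoints.subring R G ≤ FixedPoints.subring R H)

omit [Finite G] in
theorem smul_eq_of_mk_eq (x : FixedPoints.subring R H) {a b : G}
    (h : (a : G ⧸ H) = b) : a • (x : R) = b • (x : R) := by
  rw [QuotientGroup.eq] at h
  have := x.2 ⟨a⁻¹ * b, h⟩
  change (a⁻¹ * b) • (x : R) = x at this
  rw [mul_smul, inv_smul_eq_iff] at this
  exact this.symm

/-- The term of the relative trace indexed by a coset. -/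
noncomputable def term (x : FixedPoints.subring R H) (c : G ⧸ H) : R := c.out • (x : R)

omit [Finite G] in
theorem smul_term (x : FixedPoints.subring R H) (g : G) (c : G ⧸ H) :
    g • term H x c = term H x (g • c) := by
  rw [term, term, ← mul_smul]
  apply smul_eq_of_mk_eq
  rw [QuotientGroup.out_eq']
  exact MulAction.Quotient.mk_smul_out H g c

/-- The relative trace from `H`-invariants to `G`-invariants. -/
noncomputable def trace (x : FixedPoints.subring R H) : FixedPoints.subring R G :=
  letI := Fintype.ofFinite (G ⧸ H)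
  ⟨∑ c : G ⧸ H, term H x c, fun g => by
    simp only [Finset.smul_sum, smul_term]
    exact Fintype.sum_equiv (MulAction.toPerm g) _ _ fun _ => rfl⟩

theorem trace_mul (x : FixedPoints.subring R H) (b : FixedPoints.subring R G) :
    trace H (x * Subring.inclusion hle b) = trace H x * b := by
  apply Subtype.ext
  simp only [trace, MulMemClass.coe_mul, Finset.sum_mul]
  refine Finset.sum_congr rfl fun c _ => ?_
  simp only [term, MulMemClass.coe_mul, smul_mul']
  congr 1
  exact b.2 c.out

theorem trace_zero : trace H (0 : FixedPoints.subring R H) = 0 := by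
  apply Subtype.ext; simp [trace, term]

theorem trace_add (x y : FixedPoints.subring R H) : trace H (x + y) = trace H x + trace H y := by
  apply Subtype.ext
  simp [trace, term, Finset.sum_add_distrib]

/-- The intersection of the `H`-conjugates of `q`. -/
def orbitIdeal : Ideal R := ⨅ h : H, (h : G) • q

theorem trace_sub_mem {e : FixedPoints.subring R H} (heg : ∀ g ∉ H, (e : R) ∈ g • q)
    (K : ℕ) (x : FixedPoints.subring R H) :
    ((Subring.inclusion hle (trace H (e ^ K * x)) - e ^ K * x : FixedPoints.subring R H) : R) ∈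
      orbitIdeal H q ^ K := by
  classical
  letI := Fintype.ofFinite (G ⧸ H)
  have h1 : term H (e ^ K * x) (1 : G) = ((e ^ K * x : FixedPoints.subring R H) : R) := by
    have := smul_eq_of_mk_eq H (e ^ K * x) (QuotientGroup.out_eq' ((1 : G) : G ⧸ H))
    rw [one_smul] at this
    exact this
  have h2 : ((Subring.inclusion hle (trace H (e ^ K * x)) - e ^ K * x : FixedPoints.subring R H) : R)
      = ∑ c ∈ Finset.univ.erase ((1 : G) : G ⧸ H), term H (e ^ K * x) c := by
    rw [Finset.sum_erase_eq_sub (Finset.mem_univ _), h1]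
    rfl
  rw [h2]
  refine Ideal.sum_mem _ fun c hc => ?_
  have hce : c.out ∉ H := by
    intro h
    apply (Finset.mem_erase.1 hc).1
    rw [← QuotientGroup.out_eq' c, QuotientGroup.eq]
    simpa using H.inv_mem h
  simp only [term, MulMemClass.coe_mul, SubmonoidClass.coe_pow, smul_mul', smul_pow']
  refine Ideal.mul_mem_right _ _ (Ideal.pow_mem_pow ?_ K)
  rw [orbitIdeal, Submodule.mem_iInf]
  intro h
  have hout : c.out⁻¹ * h ∉ H := fun hm => hce (by
    have := H.mul_mem hm (H.inv_mem h.2)
    simpa using H.inv_mem this)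
  have h4 := heg _ hout
  rw [mul_smul, Ideal.mem_inv_pointwise_smul_iff] at h4
  exact h4

include hle in
omit [Finite G] in
theorem isInvariant_sub :
    Algebra.IsInvariant (FixedPoints.subring R H) R H ∧
      SMulCommClass H (FixedPoints.subring R H) R := by
  refine ⟨⟨fun r hr => ⟨⟨r, hr⟩, rfl⟩⟩, ⟨fun h x r => ?_⟩⟩
  change h • ((x : R) * r) = (x : R) * h • r
  rw [smul_mul', x.2 h]

include hle in
theorem exists_mul_mem [IsNoetherianRing (FixedPoints.subring R G)]
    [Module.Finite (FixedPoints.subring R G) R] (n : ℕ) :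
    ∃ s : FixedPoints.subring R H, (s : R) ∉ q ∧ ∃ K : ℕ, ∀ y : FixedPoints.subring R H,
      (y : R) ∈ orbitIdeal H q ^ K → s * y ∈ Ideal.comap (FixedPoints.subring R H).subtype q ^ n := by
  classical
  obtain ⟨hI, hS⟩ := isInvariant_sub (R := R) H hle
  haveI := hI
  haveI := hS
  let R' := FixedPoints.subring R H
  let B := FixedPoints.subring R G
  letI : Algebra B R' := (Subring.inclusion hle).toAlgebra
  haveI : IsScalarTower B R' R := IsScalarTower.of_algebraMap_eq fun _ => rfl
  haveI : IsNoetherianRing R := IsNoetherianRing.of_finite B R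
  haveI : Module.Finite R' R := Module.Finite.of_restrictScalars_finite B R' R
  haveI : Module.Finite B R' := by
    haveI : IsNoetherian B R := isNoetherian_of_isNoetherianRing_of_finite B R
    exact Module.Finite.of_injective (IsScalarTower.toAlgHom B R' R).toLinearMap
      (fun a b h => Subtype.ext h)
  haveI : IsNoetherianRing R' := IsNoetherianRing.of_finite B R'
  let q' : Ideal R' := Ideal.comap R'.subtype q
  let I : Ideal R := q'.map (algebraMap R' R)
  have hfin := Ideal.finite_minimalPrimes_of_isNoetherianRing R I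
  have hmem : ∀ P ∈ I.minimalPrimes, ∃ t : R', t ∉ q' ∧ ∀ z ∈ orbitIdeal H q, (t : R) * z ∈ P := by
    intro P hP
    haveI : P.IsPrime := hP.1.1
    by_cases hPq : P.under R' = q'
    · obtain ⟨h, hh⟩ := Algebra.IsInvariant.exists_smul_of_under_eq R' R H q P hPq.symm
      refine ⟨1, (inferInstance : q'.IsPrime).one_notMem, fun z hz => ?_⟩
      rw [hh]
      refine Ideal.mul_mem_left _ _ ?_
      exact (Submodule.mem_iInf _).1 hz h
    · have hle' : q' ≤ P.under R' := Ideal.map_le_iff_le_comap.1 hP.1.2
      obtain ⟨t, ht, htq⟩ := Set.not_subset.1 fun hsub => hPq (le_antisymm hsub hle')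
      exact ⟨t, htq, fun z _ => Ideal.mul_mem_right _ _ ht⟩
  choose t htq htP using hmem
  let s : R' := ∏ P : hfin.toFinset, t P.1 (hfin.mem_toFinset.1 P.2)
  have hs : s ∉ q' := fun h => by
    obtain ⟨P, -, hP⟩ := ((inferInstance : q'.IsPrime).prod_mem_iff).1 h
    exact htq _ _ hP
  have hrad : ∀ z ∈ orbitIdeal H q, (s : R) * z ∈ I.radical := by
    intro z hz
    rw [← Ideal.sInf_minimalPrimes, Submodule.mem_sInf]
    intro P hP
    have : (s : R) = ∏ Q : hfin.toFinset, (t Q.1 (hfin.mem_toFinset.1 Q.2) : R) :=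
      map_prod R'.subtype _ _
    let P₀ : hfin.toFinset := ⟨P, hfin.mem_toFinset.2 hP⟩
    rw [this, ← Finset.mul_prod_erase _ _ (Finset.mem_univ P₀), mul_right_comm]
    exact Ideal.mul_mem_right _ _ (htP P hP z hz)
  obtain ⟨k, hk⟩ := Ideal.exists_pow_le_of_le_radical_of_fg (I := (Ideal.span {(s : R)}) *
    orbitIdeal H q) (J := I) (Ideal.mul_le.2 fun a ha z hz => by
      obtain ⟨c, rfl⟩ := Ideal.mem_span_singleton'.1 ha
      rw [mul_assoc]
      exact Ideal.mul_mem_left _ _ (hrad z hz)) (IsNoetherian.noetherian _)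
  obtain ⟨c, hc⟩ := Ideal.exists_pow_inf_eq_pow_smul q'
    (LinearMap.range (Algebra.linearMap R' R))
  refine ⟨s ^ (k * (n + c)), fun h => hs (‹q.IsPrime›.mem_of_pow_mem _ h), k * (n + c),
    fun y hy => ?_⟩
  have h1 : (s : R) ^ (k * (n + c)) * y ∈ I ^ (n + c) := by
    have : (s : R) ^ (k * (n + c)) * y ∈
        ((Ideal.span {(s : R)}) * orbitIdeal H q) ^ (k * (n + c)) := by
      rw [mul_pow]
      exact Ideal.mul_mem_mul (Ideal.pow_mem_pow (Ideal.mem_span_singleton_self _) _) hy
    rw [pow_mul _ k (n + c)] at this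
    exact Ideal.pow_right_mono hk _ this
  have h2 : (s : R) ^ (k * (n + c)) * y ∈
      (q' ^ (n + c) • (⊤ : Submodule R' R)) ⊓ LinearMap.range (Algebra.linearMap R' R) := by
    refine ⟨?_, s ^ (k * (n + c)) * y, by simp; rfl⟩
    rw [Ideal.smul_top_eq_map]
    change (s : R) ^ (k * (n + c)) * y ∈ (q' ^ (n + c)).map (algebraMap R' R)
    rw [Ideal.map_pow]
    exact h1
  rw [hc _ (by omega)] at h2
  have h3 := smul_mono_right (q' ^ (n + c - c))
    (inf_le_right : q' ^ c • (⊤ : Submodule R' R) ⊓ _ ≤ LinearMap.range (Algebra.linearMap R' R)) h2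
  rw [Nat.add_sub_cancel, LinearMap.range_eq_map, ← Submodule.map_smul'',
    smul_eq_mul, Ideal.mul_top] at h3
  obtain ⟨w, hw, hwe⟩ := h3
  have : w = s ^ (k * (n + c)) * y := Subtype.ext (by
    change (w : R) = _ at hwe
    simpa using hwe)
  exact this ▸ hw

include hD in
theorem completion_iso [IsNoetherianRing (FixedPoints.subring R G)]
    [Module.Finite (FixedPoints.subring R G) R] (n : ℕ) :
    let q' : Ideal (FixedPoints.subring R H) := Ideal.comap (FixedPoints.subring R H).subtype q
    let φ := Localization.localRingHom (Ideal.comap (Subring.inclusion hle) q') q' (Subring.inclusion hle) rfl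
    Function.Surjective ((Ideal.Quotient.mk (IsLocalRing.maximalIdeal (Localization.AtPrime q') ^ n)).comp φ) ∧
      Ideal.comap φ (IsLocalRing.maximalIdeal (Localization.AtPrime q') ^ n) =
        IsLocalRing.maximalIdeal (Localization.AtPrime (Ideal.comap (Subring.inclusion hle) q')) ^ n := by
  intro q' φ
  let R' := FixedPoints.subring R H
  let B := FixedPoints.subring R G
  let p : Ideal B := Ideal.comap (Subring.inclusion hle) q'
  let L := Localization.AtPrime q'
  let ι : R' →+* L := algebraMap R' L
  let m := IsLocalRing.maximalIdeal (Localization.AtPrime p)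
  let m' := IsLocalRing.maximalIdeal L
  haveI : IsNoetherianRing R' := by
    letI : Algebra B R' := (Subring.inclusion hle).toAlgebra
    haveI : IsScalarTower B R' R := IsScalarTower.of_algebraMap_eq fun _ => rfl
    haveI : IsNoetherian B R := isNoetherian_of_isNoetherianRing_of_finite B R
    haveI : Module.Finite B R' := Module.Finite.of_injective
      (IsScalarTower.toAlgHom B R' R).toLinearMap (fun a b h => Subtype.ext h)
    exact IsNoetherianRing.of_finite B R'
  obtain ⟨e₀, he₀, heq, heg⟩ := exists_separator H q hD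
  let e : R' := ⟨e₀, fun h => he₀ h.1 h.2⟩
  have hφ : ∀ b : B, φ (algebraMap B _ b) = ι (Subring.inclusion hle b) :=
    fun b => Localization.localRingHom_to_map p q' (Subring.inclusion hle) rfl b
  have heu : ∀ K, IsUnit (ι (e ^ K)) := fun K =>
    (IsLocalization.AtPrime.isUnit_to_map_iff L q' _).2
      fun h => heq ((inferInstance : q'.IsPrime).mem_of_pow_mem _ h)
  have approx : ∀ N, ∃ K, ∀ x : R',
      ι (Subring.inclusion hle (trace H (e ^ K * x))) - ι (e ^ K * x) ∈ m' ^ N := by
    intro N
    obtain ⟨s, hs, K, hK⟩ := exists_mul_mem H q hle N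
    refine ⟨K, fun x => ?_⟩
    have h1 := hK _ (trace_sub_mem H q hle (e := e) heg K x)
    have h2 : ι (s * (Subring.inclusion hle (trace H (e ^ K * x)) - e ^ K * x)) ∈ m' ^ N := by
      have := Ideal.mem_map_of_mem ι h1
      rw [Ideal.map_pow] at this
      exact Ideal.pow_right_mono
        (IsLocalization.AtPrime.map_eq_maximalIdeal q' L).le _ this
    rw [map_mul, map_sub] at h2
    exact (Ideal.unit_mul_mem_iff_mem _
      ((IsLocalization.AtPrime.isUnit_to_map_iff L q' s).2 hs)).1 h2
  have hdense : ∀ N, ∀ z : L, ∃ w, z - φ w ∈ m' ^ N := by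
    intro N z
    rcases Nat.eq_zero_or_pos N with rfl | hN
    · exact ⟨0, by simp⟩
    have key : ∀ a : R', ∃ w, ι a - φ w ∈ m' ^ N ∧
        (a ∉ q' → IsUnit w) := by
      intro a
      obtain ⟨K, hK⟩ := approx N
      have hne : trace H (e ^ K * (1 : R')) ∉ p := by
        intro h
        have h1 : ι (Subring.inclusion hle (trace H (e ^ K * 1))) ∈ m' :=
          (IsLocalization.AtPrime.to_map_mem_maximal_iff L q' _).2 h
        have h2 := Ideal.pow_le_self (I := m') hN.ne' (hK 1)
        have h3 : ι (e ^ K * 1) ∈ m' := by simpa using sub_mem h1 h2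
        rw [mul_one] at h3
        exact (IsLocalRing.mem_maximalIdeal _).1 h3 (heu K)
      let w := IsLocalization.mk' (Localization.AtPrime p) (trace H (e ^ K * a))
        (⟨_, hne⟩ : p.primeCompl)
      have hw : φ w * ι (Subring.inclusion hle (trace H (e ^ K * 1))) =
          ι (Subring.inclusion hle (trace H (e ^ K * a))) := by
        rw [← hφ, ← map_mul, ← hφ]
        exact congrArg φ (IsLocalization.mk'_spec (M := p.primeCompl)
          (Localization.AtPrime p) (trace H (e ^ K * a)) ⟨_, hne⟩)
      refine ⟨w, ?_, fun ha => ?_⟩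
      · have h1 := hK a
        have h2 := hK 1
        rw [mul_one] at h2 hw
        rw [← Ideal.unit_mul_mem_iff_mem _ (heu K)]
        have h3 : φ w * (ι (Subring.inclusion hle (trace H (e ^ K))) - ι (e ^ K)) -
            (ι (Subring.inclusion hle (trace H (e ^ K * a))) - ι (e ^ K * a)) ∈ m' ^ N :=
          sub_mem (Ideal.mul_mem_left _ _ h2) h1
        convert h3 using 1
        rw [mul_sub (φ w), hw, map_mul]
        ring
      · apply (isUnit_map_iff φ w).1
        by_contra hnu
        have h1 := hK a
        have h2 : ι (Subring.inclusion hle (trace H (e ^ K * a))) ∈ m' := by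
          rw [← hw]
          exact Ideal.mul_mem_right _ _ hnu
        have h3 : ι (e ^ K * a) ∈ m' := by
          simpa using sub_mem h2 (Ideal.pow_le_self (I := m') hN.ne' h1)
        rw [map_mul, Ideal.unit_mul_mem_iff_mem _ (heu K)] at h3
        exact ha ((IsLocalization.AtPrime.to_map_mem_maximal_iff L q' a).1 h3)
    obtain ⟨a, b, rfl⟩ := IsLocalization.exists_mk'_eq q'.primeCompl z
    obtain ⟨w, hw, -⟩ := key a
    obtain ⟨v, hv, hvu⟩ := key b
    obtain ⟨v, rfl⟩ := hvu b.2
    refine ⟨w * ↑v⁻¹, ?_⟩
    rw [← Ideal.unit_mul_mem_iff_mem _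
      ((IsLocalization.AtPrime.isUnit_to_map_iff L q' b).2 b.2)]
    have e1 : ι b * IsLocalization.mk' L a b = ι a := IsLocalization.mk'_spec' L a b
    have e2 : φ ↑v * φ ↑v⁻¹ = 1 := by rw [← map_mul, Units.mul_inv, map_one]
    have h3 : (ι a - φ w) - (ι b - φ ↑v) * (φ w * φ ↑v⁻¹) ∈ m' ^ N :=
      sub_mem hw (Ideal.mul_mem_right _ _ hv)
    convert h3 using 1
    rw [map_mul, mul_sub, e1]
    linear_combination φ w * (-e2)
  have hcm : Ideal.comap φ m' = m :=
    ((IsLocalRing.local_hom_TFAE φ).out 0 4).1 (Localization.isLocalHom_localRingHom _ _ _ _)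
  have hmap : m' = m.map φ := by
    apply le_antisymm
    · refine Submodule.le_of_le_smul_of_le_jacobson_bot (I := m') (IsNoetherian.noetherian m') ?_
        fun z hz => ?_
      · rw [IsLocalRing.jacobson_eq_maximalIdeal ⊥ bot_ne_top]
      · obtain ⟨w, hw⟩ := hdense 2 z
        have hw' : φ w ∈ m' := by
          have := sub_mem hz (Ideal.pow_le_self (I := m') two_ne_zero hw)
          simpa using this
        rw [← hcm]
        refine Submodule.mem_sup.2 ⟨φ w, Ideal.mem_map_of_mem φ hw', z - φ w, ?_, by ring⟩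
        rw [smul_eq_mul, ← pow_two]
        exact hw
    · exact Ideal.map_le_iff_le_comap.2 hcm.ge
  constructor
  · intro x
    obtain ⟨z, rfl⟩ := Ideal.Quotient.mk_surjective x
    obtain ⟨w, hw⟩ := hdense n z
    exact ⟨w, (Ideal.Quotient.eq.2 hw).symm⟩
  · refine le_antisymm (fun x hx => ?_) ?_
    · rcases Nat.eq_zero_or_pos n with rfl | hn
      · rw [pow_zero, Ideal.one_eq_top]; trivial
      obtain ⟨b, t, rfl⟩ := IsLocalization.exists_mk'_eq p.primeCompl x
      rw [IsLocalization.mk'_eq_mul_mk'_one] at hx ⊢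
      refine Ideal.mul_mem_right _ _ ?_
      have hu : IsUnit (IsLocalization.mk' (Localization.AtPrime p) (1 : B) t) :=
        IsUnit.of_mul_eq_one _ (IsLocalization.mk'_spec _ (1 : B) t |>.trans (map_one _))
      rw [Ideal.mem_comap, map_mul, mul_comm, Ideal.unit_mul_mem_iff_mem _ (hu.map φ), hφ] at hx
      change _ ∈ m' ^ n at hx
      rw [hmap, ← Ideal.map_pow] at hx
      have hml : (m ^ n).map φ = ((p ^ n).map (Subring.inclusion hle)).map ι := by
        have : m = p.map (algebraMap B (Localization.AtPrime p)) :=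
          (IsLocalization.AtPrime.map_eq_maximalIdeal p _).symm
        rw [this, ← Ideal.map_pow, Ideal.map_map, Ideal.map_map]
        congr 1
        ext c
        exact hφ c
      rw [hml, IsLocalization.algebraMap_mem_map_algebraMap_iff q'.primeCompl] at hx
      obtain ⟨u, hu', hub⟩ := hx
      obtain ⟨K, hK⟩ := approx 1
      have hne : trace H (e ^ K * u) ∉ p := by
        intro h
        have h1 : ι (Subring.inclusion hle (trace H (e ^ K * u))) ∈ m' :=
          (IsLocalization.AtPrime.to_map_mem_maximal_iff L q' _).2 h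
        have h3 : ι (e ^ K * u) ∈ m' := by
          simpa using sub_mem h1 (Ideal.pow_le_self (I := m') one_ne_zero (hK u))
        rw [map_mul, Ideal.unit_mul_mem_iff_mem _ (heu K)] at h3
        exact hu' ((IsLocalization.AtPrime.to_map_mem_maximal_iff L q' u).1 h3)
      have htr : trace H (e ^ K * u) * b ∈ p ^ n := by
        rw [← trace_mul H hle]
        have : e ^ K * u * Subring.inclusion hle b ∈ (p ^ n).map (Subring.inclusion hle) := by
          rw [mul_assoc]; exact Ideal.mul_mem_left _ _ hub
        generalize e ^ K * u * Subring.inclusion hle b = y at this ⊢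
        suffices hyp : ∀ y ∈ (p ^ n).map (Subring.inclusion hle), ∀ a : R',
            trace H (a * y) ∈ p ^ n by
          simpa using hyp y this 1
        intro y hy
        induction hy using Submodule.span_induction with
        | mem y hy =>
          obtain ⟨c, hc, rfl⟩ := hy
          intro a
          rw [trace_mul]
          exact Ideal.mul_mem_left _ _ hc
        | zero => intro a; rw [mul_zero, trace_zero]; exact Ideal.zero_mem _
        | add x y _ _ hx hy => intro a; rw [mul_add, trace_add]; exact add_mem (hx a) (hy a)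
        | smul r x _ hx => intro a; rw [smul_eq_mul, ← mul_assoc]; exact hx _
      have := Ideal.mem_map_of_mem (algebraMap B (Localization.AtPrime p)) htr
      rw [Ideal.map_pow, IsLocalization.AtPrime.map_eq_maximalIdeal, map_mul,
        Ideal.unit_mul_mem_iff_mem _
          ((IsLocalization.AtPrime.isUnit_to_map_iff _ p _).2 hne)] at this
      exact this
    · rw [← Ideal.map_le_iff_le_comap, Ideal.map_pow, ← hmap]

end Groth.Agent.SGA1Quot.Decomp
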